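import Cfsg.Agent.H7.PU.Shear
import Cfsg.Agent.H745.TF.Stmts
import Cfsg.Agent.H659.TF.PosA
import Cfsg.Agent.H805.TF.Iso
import Cfsg.Agent.Mrg.Omega.BTwo.Conj

/-!
# S5262: the statements `StLB1` and `StLB2` (helper7)

* the centre `V` of `QB`, the action `pi : MulAut QB →* Aut(K × K)` on it;
* `stLB1 : StGrp → StTIB → StLB1`, `stLB2 : StGrp → StTIB → StLB2`.
-/

set_option autoImplicit false
set_option linter.unusedSectionVars false

section

namespace Cfsg.Agent.H7.TF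

open Cfsg Cfsg.Agent.H756.PU Cfsg.Agent.H745.TF Cfsg.Agent.H7.PU.Core
open Cfsg.Agent.H659.TF (x2_B x3_B x4_B x5_B x6_B x7_B x8_B exists_Pi)
open Cfsg.Agent.H802 (exists_conjAut mem_autInducedBy_iff)

universe u v

variable {K : Type u} [Field K] {σ : K →+* K} {m : ℕ} {U : Type v} [Group U] (T : TF σ U)

/-! ### zero -/

theorem x1_0 : T.x1 0 = 1 := by
  have h := T.rel.m1 0 0
  rw [add_zero] at h
  exact mul_eq_left.1 h
theorem x3_0 : T.x3 0 = 1 := by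
  have h := T.rel.m3 0 0
  rw [add_zero] at h
  exact mul_eq_left.1 h
theorem x5_0 : T.x5 0 = 1 := by
  have h := T.rel.m5 0 0
  rw [add_zero] at h
  exact mul_eq_left.1 h
theorem x7_0 : T.x7 0 = 1 := by
  have h := T.rel.m7 0 0
  rw [add_zero] at h
  exact mul_eq_left.1 h
theorem x2_0 : T.x2 0 0 = 1 := by
  have h := T.rel.m2 0 0 0 0
  rw [zero_mul, add_zero, add_zero] at h
  exact mul_eq_left.1 h
theorem x4_0 : T.x4 0 0 = 1 := by
  have h := T.rel.m4 0 0 0 0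
  rw [zero_mul, add_zero, add_zero] at h
  exact mul_eq_left.1 h
theorem x6_0 : T.x6 0 0 = 1 := by
  have h := T.rel.m6 0 0 0 0
  rw [zero_mul, add_zero, add_zero] at h
  exact mul_eq_left.1 h
theorem x8_0 : T.x8 0 0 = 1 := by
  have h := T.rel.m8 0 0 0 0
  rw [zero_mul, add_zero, add_zero] at h
  exact mul_eq_left.1 h

/-- the elements of `V` -/
def vv (u : K × K) : U := T.x4 0 u.1 * T.x6 0 u.2

theorem vv_mem (u : K × K) : vv T u ∈ T.QB := mul_mem (x4_B _ _) (x6_B _ _)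

/-- `Z4` is central in `U` -/
theorem z4_comm (u : K) (g : U) : T.x4 0 u * g = g * T.x4 0 u := by
  obtain ⟨c, rfl⟩ := T.bij.2 g
  have R := T.rel
  have k1 : ∀ t, T.x4 0 u * T.x1 t = T.x1 t * T.x4 0 u := fun t => by
    have := R.r14 t 0 u
    rw [mul_zero, x2_0, mul_one] at this
    exact this.symm
  have k2 : ∀ p v, T.x4 0 u * T.x2 p v = T.x2 p v * T.x4 0 u := fun p v => by
    have := R.r24 p v 0 u
    rw [mul_zero, x3_0, mul_one] at this
    exact this.symm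
  have k3 : ∀ t, T.x4 0 u * T.x3 t = T.x3 t * T.x4 0 u := fun t => (R.r34 t 0 u).symm
  have k4 : ∀ p v, T.x4 0 u * T.x4 p v = T.x4 p v * T.x4 0 u := fun p v => by
    rw [R.m4, R.m4]
    congr 1
    · ring
    · rw [zero_mul, map_zero, mul_zero]; ring
  have k5 : ∀ t, T.x4 0 u * T.x5 t = T.x5 t * T.x4 0 u := fun t => R.r45 0 u t
  have k6 : ∀ p v, T.x4 0 u * T.x6 p v = T.x6 p v * T.x4 0 u := fun p v => by
    have := R.r46 0 u p v
    rwa [zero_mul, x5_0, mul_one] at this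
  have k7 : ∀ t, T.x4 0 u * T.x7 t = T.x7 t * T.x4 0 u := fun t => by
    have := R.r47 0 u t
    rwa [zero_mul, x6_0, mul_one] at this
  have k8 : ∀ p v, T.x4 0 u * T.x8 p v = T.x8 p v * T.x4 0 u := fun p v => R.r48 0 u p v
  show Commute (T.x4 0 u) _
  have hc : ∀ {a b : U}, T.x4 0 u * a = a * T.x4 0 u → T.x4 0 u * b = b * T.x4 0 u →
      T.x4 0 u * (a * b) = a * b * T.x4 0 u := by
    intro a b ha hb
    rw [← mul_assoc, ha, mul_assoc, hb, mul_assoc]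
  exact hc (hc (hc (hc (hc (hc (hc (k1 _) (k2 _ _)) (k3 _)) (k4 _ _)) (k5 _)) (k6 _ _)) (k7 _)) (k8 _ _)

/-- elements of `QB` as products -/
theorem exists_B (h2 : (2 : K) = 0) {g : U} (hg : g ∈ T.QB) : ∃ a2 b2 a3 a4 b4 a5 a6 b6 a7 a8 b8 : K,
    g = T.x2 a2 b2 * T.x3 a3 * T.x4 a4 b4 * T.x5 a5 * T.x6 a6 b6 * T.x7 a7 * T.x8 a8 b8 := by
  obtain ⟨π, P⟩ := exists_Pi T h2
  obtain ⟨c, rfl⟩ := T.bij.2 g
  have h1 := P.B_t hg
  have h3 : (π (T.el c)).t = 0 := h1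
  rw [P.el_t] at h3
  refine ⟨c.a2, c.b2, c.a3, c.a4, c.b4, c.a5, c.a6, c.b6, c.a7, c.a8, c.b8, ?_⟩
  show T.x1 c.a1 * _ * _ * _ * _ * _ * _ * _ = _
  rw [h3, x1_0, one_mul]

/-- `Z6` is central in `QB` -/
theorem z6_comm (h2 : (2 : K) = 0) (u : K) {g : U} (hg : g ∈ T.QB) : T.x6 0 u * g = g * T.x6 0 u := by
  obtain ⟨a2, b2, a3, a4, b4, a5, a6, b6, a7, a8, b8, rfl⟩ := exists_B T h2 hg
  have R := T.rel
  have k2 : ∀ p v, T.x6 0 u * T.x2 p v = T.x2 p v * T.x6 0 u := fun p v => (R.r26 p v 0 u).symm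
  have k3 : ∀ t, T.x6 0 u * T.x3 t = T.x3 t * T.x6 0 u := fun t => by
    have := R.r36 t 0 u
    rw [mul_zero, x4_0, mul_one] at this
    exact this.symm
  have k4 : ∀ p v, T.x6 0 u * T.x4 p v = T.x4 p v * T.x6 0 u := fun p v => by
    have := R.r46 p v 0 u
    rw [mul_zero, x5_0, mul_one] at this
    exact this.symm
  have k5 : ∀ t, T.x6 0 u * T.x5 t = T.x5 t * T.x6 0 u := fun t => (R.r56 t 0 u).symm
  have k6 : ∀ p v, T.x6 0 u * T.x6 p v = T.x6 p v * T.x6 0 u := fun p v => by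
    rw [R.m6, R.m6]
    congr 1
    · ring
    · rw [zero_mul, map_zero, mul_zero]; ring
  have k7 : ∀ t, T.x6 0 u * T.x7 t = T.x7 t * T.x6 0 u := fun t => R.r67 0 u t
  have k8 : ∀ p v, T.x6 0 u * T.x8 p v = T.x8 p v * T.x6 0 u := fun p v => by
    have := R.r68 0 u p v
    rwa [zero_mul, x7_0, mul_one] at this
  have hc : ∀ {a b : U}, T.x6 0 u * a = a * T.x6 0 u → T.x6 0 u * b = b * T.x6 0 u →
      T.x6 0 u * (a * b) = a * b * T.x6 0 u := by
    intro a b ha hb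
    rw [← mul_assoc, ha, mul_assoc, hb, mul_assoc]
  exact hc (hc (hc (hc (hc (hc (k2 _ _) (k3 _)) (k4 _ _)) (k5 _)) (k6 _ _)) (k7 _)) (k8 _ _)

theorem vv_comm (h2 : (2 : K) = 0) (u : K × K) {g : U} (hg : g ∈ T.QB) : vv T u * g = g * vv T u := by
  unfold vv
  rw [mul_assoc, z6_comm T h2 _ hg, ← mul_assoc, z4_comm, mul_assoc]

theorem vv_add (u w : K × K) : vv T (u + w) = vv T u * vv T w := by
  unfold vv
  have e4 : T.x4 0 (u.1 + w.1) = T.x4 0 u.1 * T.x4 0 w.1 := by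
    rw [T.rel.m4, map_zero, mul_zero, add_zero, add_zero]
  have e6 : T.x6 0 (u.2 + w.2) = T.x6 0 u.2 * T.x6 0 w.2 := by
    rw [T.rel.m6, map_zero, mul_zero, add_zero, add_zero]
  rw [Prod.fst_add, Prod.snd_add, e4, e6]
  have := z4_comm T w.1 (T.x6 0 u.2)
  calc T.x4 0 u.1 * T.x4 0 w.1 * (T.x6 0 u.2 * T.x6 0 w.2)
      = T.x4 0 u.1 * (T.x4 0 w.1 * T.x6 0 u.2) * T.x6 0 w.2 := by group
    _ = T.x4 0 u.1 * (T.x6 0 u.2 * T.x4 0 w.1) * T.x6 0 w.2 := by rw [this]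
    _ = _ := by group

theorem vv_zero : vv T 0 = 1 := by
  have h := vv_add T 0 0
  rw [add_zero] at h
  exact mul_eq_left.1 h.symm

theorem vv_self (h2 : (2 : K) = 0) (u : K × K) : vv T u * vv T u = 1 := by
  rw [← vv_add, ← vv_zero T]
  congr 1
  apply Prod.ext
  · show u.1 + u.1 = 0
    linear_combination u.1 * h2
  · show u.2 + u.2 = 0
    linear_combination u.2 * h2

theorem vv_injective : Function.Injective (vv T) := by
  intro u w h
  have key : ∀ u : K × K, T.el ⟨0, 0, 0, 0, 0, u.1, 0, 0, u.2, 0, 0, 0⟩ = vv T u := by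
    intro u
    show T.x1 0 * T.x2 0 0 * T.x3 0 * T.x4 0 u.1 * T.x5 0 * T.x6 0 u.2 * T.x7 0 * T.x8 0 0 = _
    rw [x1_0, x2_0, x3_0, x5_0, x7_0, x8_0, one_mul, one_mul, one_mul, mul_one, mul_one, mul_one]
    rfl
  rw [← key, ← key] at h
  have h1 := T.bij.1 h
  simp only [Cd.mk.injEq, true_and, and_true] at h1
  exact Prod.ext h1.1 h1.2

/-! ### the centre of `QB` -/

/-- `y g = g y vv(u)` -/
def CM (y g : U) (u : K × K) : Prop := g ∈ T.QB ∧ y * g = g * y * vv T u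

section
variable {T}

theorem CM.mul (h2 : (2 : K) = 0) {y g g' : U} {u u' : K × K} (h : CM T y g u) (h' : CM T y g' u') :
    CM T y (g * g') (u + u') := by
  refine ⟨mul_mem h.1 h'.1, ?_⟩
  calc y * (g * g') = y * g * g' := by group
    _ = g * y * vv T u * g' := by rw [h.2]
    _ = g * y * (vv T u * g') := by group
    _ = g * y * (g' * vv T u) := by rw [vv_comm T h2 u h'.1]
    _ = g * (y * g') * vv T u := by group
    _ = g * (g' * y * vv T u') * vv T u := by rw [h'.2]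
    _ = g * g' * y * (vv T u' * vv T u) := by group
    _ = g * g' * y * (vv T (u + u')) := by rw [add_comm u u', vv_add]

theorem CM.eq_zero {y g : U} {u : K × K} (h : CM T y g u) (hc : y * g = g * y) : u = 0 := by
  have h1 := h.2
  rw [hc] at h1
  apply vv_injective T
  rw [vv_zero]
  exact mul_eq_left.1 h1.symm

theorem CM.of_comm {y g : U} (hg : g ∈ T.QB) (h : y * g = g * y) : CM T y g 0 := ⟨hg, by rw [vv_zero, mul_one, h]⟩

/-- from the relation in the other order -/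
theorem CM.of_rel (h2 : (2 : K) = 0) {y g : U} {u : K × K} (hg : g ∈ T.QB) (_hy : y ∈ T.QB)
    (h : g * y = y * g * vv T u) : CM T y g u := by
  refine ⟨hg, ?_⟩
  rw [h, mul_assoc, vv_self T h2, mul_one]

theorem vv_left (a : K) : vv T (a, 0) = T.x4 0 a := by
  show T.x4 0 a * T.x6 0 0 = _
  rw [x6_0, mul_one]

theorem vv_right (a : K) : vv T (0, a) = T.x6 0 a := by
  show T.x4 0 0 * T.x6 0 a = _
  rw [x4_0, one_mul]

end

theorem center_aux (h2 : (2 : K) = 0) {g : U} (hg : g ∈ T.QB) (hc : ∀ y ∈ T.QB, y * g = g * y) :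
    ∃ u, g = vv T u := by
  obtain ⟨a2, b2, a3, a4, b4, a5, a6, b6, a7, a8, b8, rfl⟩ := exists_B T h2 hg
  have R := T.rel
  -- `x5`
  have s1 : CM T (T.x5 1) (T.x2 a2 b2 * T.x3 a3 * T.x4 a4 b4 * T.x5 a5 * T.x6 a6 b6 * T.x7 a7 * T.x8 a8 b8)
      ((a2, 0) + 0 + 0 + 0 + 0 + 0 + (0, a8)) := by
    refine (((((CM.mul h2 (CM.mul h2 ?_ ?_) ?_).mul h2 ?_).mul h2 ?_).mul h2 ?_).mul h2 ?_)
    · refine CM.of_rel h2 (x2_B _ _) (x5_B _) ?_
      rw [vv_left, R.r25, mul_one]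
    · exact CM.of_comm (x3_B _) (R.r35 _ _).symm
    · exact CM.of_comm (x4_B _ _) (R.r45 _ _ _).symm
    · exact CM.of_comm (x5_B _) (by rw [R.m5, R.m5, add_comm])
    · exact CM.of_comm (x6_B _ _) (R.r56 _ _ _)
    · exact CM.of_comm (x7_B _) (R.r57 _ _)
    · refine ⟨x8_B _ _, ?_⟩
      rw [vv_right, R.r58, one_mul]
  have t1 := s1.eq_zero (hc _ (x5_B _))
  simp only [add_zero, Prod.mk_add_mk, zero_add, Prod.mk_eq_zero] at t1
  obtain ⟨rfl, rfl⟩ := t1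
  -- `x3`
  have s2 : CM T (T.x3 1) (T.x2 0 b2 * T.x3 a3 * T.x4 a4 b4 * T.x5 a5 * T.x6 a6 b6 * T.x7 a7 * T.x8 0 b8)
      (0 + 0 + 0 + 0 + (a6, 0) + 0 + (0, b8)) := by
    refine (((((CM.mul h2 (CM.mul h2 ?_ ?_) ?_).mul h2 ?_).mul h2 ?_).mul h2 ?_).mul h2 ?_)
    · exact CM.of_comm (x2_B _ _) (R.r23 _ _ _).symm
    · exact CM.of_comm (x3_B _) (by rw [R.m3, R.m3, add_comm])
    · exact CM.of_comm (x4_B _ _) (R.r34 _ _ _)
    · exact CM.of_comm (x5_B _) (R.r35 _ _)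
    · refine ⟨x6_B _ _, ?_⟩
      rw [vv_left, R.r36, one_mul]
    · exact CM.of_comm (x7_B _) (R.r37 _ _)
    · refine ⟨x8_B _ _, ?_⟩
      rw [vv_right, R.r38, map_zero, mul_zero, mul_zero, x4_0, mul_one, x5_0, mul_one, zero_mul, zero_add, one_mul]
  have t2 := s2.eq_zero (hc _ (x3_B _))
  simp only [add_zero, Prod.mk_add_mk, zero_add, Prod.mk_eq_zero] at t2
  obtain ⟨rfl, rfl⟩ := t2
  -- `x7`
  have s3 : CM T (T.x7 1) (T.x2 0 b2 * T.x3 a3 * T.x4 a4 b4 * T.x5 a5 * T.x6 0 b6 * T.x7 a7 * T.x8 0 0)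
      ((b2, 0) + 0 + (0, a4) + 0 + 0 + 0 + 0) := by
    refine (((((CM.mul h2 (CM.mul h2 ?_ ?_) ?_).mul h2 ?_).mul h2 ?_).mul h2 ?_).mul h2 ?_)
    · refine CM.of_rel h2 (x2_B _ _) (x7_B _) ?_
      rw [vv_left, R.r27]
      simp only [map_zero, zero_mul, zero_add, mul_one, x5_0, x6_0]
    · exact CM.of_comm (x3_B _) (R.r37 _ _).symm
    · refine CM.of_rel h2 (x4_B _ _) (x7_B _) ?_
      rw [vv_right, R.r47, mul_one]
    · exact CM.of_comm (x5_B _) (R.r57 _ _).symm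
    · exact CM.of_comm (x6_B _ _) (R.r67 _ _ _).symm
    · exact CM.of_comm (x7_B _) (by rw [R.m7, R.m7, add_comm])
    · exact CM.of_comm (x8_B _ _) (R.r78 _ _ _)
  have t3 := s3.eq_zero (hc _ (x7_B _))
  simp only [add_zero, Prod.mk_add_mk, zero_add, Prod.mk_eq_zero] at t3
  obtain ⟨rfl, rfl⟩ := t3
  rw [x2_0, x8_0, one_mul, mul_one] at hc ⊢
  -- `x6`
  have s4 : CM T (T.x6 1 0) (T.x3 a3 * T.x4 0 b4 * T.x5 a5 * T.x6 0 b6 * T.x7 a7) ((a3, 0) + 0 + 0 + 0 + 0) := by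
    refine ((CM.mul h2 (CM.mul h2 ?_ ?_) ?_).mul h2 ?_).mul h2 ?_
    · refine CM.of_rel h2 (x3_B _) (x6_B _ _) ?_
      rw [vv_left, R.r36, mul_one]
    · exact CM.of_comm (x4_B _ _) (z4_comm T _ _).symm
    · exact CM.of_comm (x5_B _) (R.r56 _ _ _).symm
    · exact CM.of_comm (x6_B _ _) (z6_comm T h2 _ (x6_B _ _)).symm
    · exact CM.of_comm (x7_B _) (R.r67 _ _ _)
  have t4 := s4.eq_zero (hc _ (x6_B _ _))
  simp only [add_zero, Prod.mk_eq_zero, and_true] at t4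
  obtain rfl := t4
  rw [x3_0, one_mul] at hc ⊢
  -- `x4`
  have s5 : CM T (T.x4 1 0) (T.x4 0 b4 * T.x5 a5 * T.x6 0 b6 * T.x7 a7) (0 + 0 + 0 + (0, a7)) := by
    refine (CM.mul h2 (CM.mul h2 ?_ ?_) ?_).mul h2 ?_
    · exact CM.of_comm (x4_B _ _) (z4_comm T _ _).symm
    · exact CM.of_comm (x5_B _) (R.r45 _ _ _)
    · exact CM.of_comm (x6_B _ _) (z6_comm T h2 _ (x4_B _ _)).symm
    · refine ⟨x7_B _, ?_⟩
      rw [vv_right, R.r47, one_mul]
  have t5 := s5.eq_zero (hc _ (x4_B _ _))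
  simp only [add_zero, zero_add, Prod.mk_eq_zero, true_and] at t5
  obtain rfl := t5
  rw [x7_0, mul_one] at hc ⊢
  -- `x8`
  have s6 : CM T (T.x8 1 0) (T.x4 0 b4 * T.x5 a5 * T.x6 0 b6) (0 + (0, a5) + 0) := by
    refine CM.mul h2 (CM.mul h2 ?_ ?_) ?_
    · exact CM.of_comm (x4_B _ _) (z4_comm T _ _).symm
    · refine CM.of_rel h2 (x5_B _) (x8_B _ _) ?_
      rw [vv_right, R.r58, mul_one]
    · exact CM.of_comm (x6_B _ _) (z6_comm T h2 _ (x8_B _ _)).symm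
  have t6 := s6.eq_zero (hc _ (x8_B _ _))
  simp only [add_zero, zero_add, Prod.mk_eq_zero, true_and] at t6
  obtain rfl := t6
  rw [x5_0, mul_one]
  exact ⟨(b4, b6), rfl⟩

/-- the element of `QB` -/
def vB (u : K × K) : T.QB := ⟨vv T u, vv_mem T u⟩

theorem vB_add (u w : K × K) : vB T (u + w) = vB T u * vB T w := Subtype.ext (vv_add T u w)

theorem vB_injective : Function.Injective (vB T) := fun _ _ h => vv_injective T (congrArg Subtype.val h)

theorem center_iff (h2 : (2 : K) = 0) (e : T.QB) : (∀ y : T.QB, y * e = e * y) ↔ ∃ u, e = vB T u := by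
  constructor
  · intro h
    obtain ⟨u, hu⟩ := center_aux T h2 e.2 (fun y hy => congrArg Subtype.val (h ⟨y, hy⟩))
    exact ⟨u, Subtype.ext hu⟩
  · rintro ⟨u, rfl⟩ y
    exact Subtype.ext (vv_comm T h2 u y.2).symm

section Pi

variable (h2 : (2 : K) = 0)
include h2

theorem exists_fn (γ : MulAut T.QB) (u : K × K) : ∃ w, γ (vB T u) = vB T w := by
  rw [← center_iff T h2]
  intro y
  obtain ⟨z, rfl⟩ := γ.surjective y
  rw [← map_mul, ← map_mul, (center_iff T h2 (vB T u)).2 ⟨u, rfl⟩ z]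

/-- the action on `V` -/
noncomputable def fn (γ : MulAut T.QB) (u : K × K) : K × K := (exists_fn T h2 γ u).choose

theorem fn_spec (γ : MulAut T.QB) (u : K × K) : γ (vB T u) = vB T (fn T h2 γ u) := (exists_fn T h2 γ u).choose_spec

theorem fn_mul (γ γ' : MulAut T.QB) (u : K × K) : fn T h2 (γ * γ') u = fn T h2 γ (fn T h2 γ' u) := by
  apply vB_injective T
  rw [← fn_spec, ← fn_spec, ← fn_spec]
  rfl

theorem fn_one (u : K × K) : fn T h2 1 u = u := by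
  apply vB_injective T
  rw [← fn_spec]
  rfl

theorem fn_add (γ : MulAut T.QB) (u w : K × K) : fn T h2 γ (u + w) = fn T h2 γ u + fn T h2 γ w := by
  apply vB_injective T
  rw [← fn_spec, vB_add, map_mul, fn_spec T h2, fn_spec T h2, vB_add]

/-- **The action on `V`.** -/
noncomputable def pi : MulAut T.QB →* A2 K where
  toFun γ := mk
    { toFun := fn T h2 γ
      invFun := fn T h2 γ⁻¹
      left_inv := fun u => by rw [← fn_mul, inv_mul_cancel, fn_one]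
      right_inv := fun u => by rw [← fn_mul, mul_inv_cancel, fn_one]
      map_add' := fn_add T h2 γ }
  map_one' := ext' fun u => fn_one T h2 u
  map_mul' γ γ' := ext' fun u => fn_mul T h2 γ γ' u

theorem pi_spec (γ : MulAut T.QB) (u : K × K) : γ (vB T u) = vB T (pi T h2 γ u) := fn_spec T h2 γ u

theorem pi_eq {γ : MulAut T.QB} {u w : K × K} (h : ((γ (vB T u) : T.QB) : U) = vv T w) : pi T h2 γ u = w := by
  apply vB_injective T
  rw [← pi_spec]
  exact Subtype.ext h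

end Pi

end Cfsg.Agent.H7.TF

end

section

namespace Cfsg.Agent.H7.TF

open Matrix Cfsg Cfsg.FusionSystem Cfsg.Agent.H756.PU Cfsg.Agent.H745.TF Cfsg.Agent.H7.PU.Core Cfsg.Agent.H7.PU.Shear
open Cfsg.Agent.H659.TF (x2_B x3_B x4_B x5_B x6_B x7_B x8_B exists_Pi Pi H3)
open Cfsg.Agent.H802 (exists_conjAut mem_autInducedBy_iff)

universe u v

/-- (TI') an automorphism in `Γ` which fixes `Z4` normalizes `Aut_U(QB)` -/
def StTIB : Prop :=
  ∀ {K : Type u} [Field K] {σ : K →+* K} {m : ℕ}, HypK σ m → ∀ {U : Type v} [Group U] (T : TF σ U)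
    (Γ : Subgroup (MulAut T.QB)), autInducedBy ⊤ T.QB ≤ Γ →
    (∀ P : Subgroup (MulAut T.QB), P ≤ Γ → IsPGroup 2 P → ∃ g ∈ Γ, ∀ x ∈ P, g * x * g⁻¹ ∈ autInducedBy ⊤ T.QB) →
    ∀ γ ∈ Γ, (∀ u, ∃ u', γ (vB T (u, 0)) = vB T (u', 0)) → NormAut ⊤ γ

variable {K : Type u} [Field K] {σ : K →+* K} {m : ℕ} {U : Type v} [Group U] (T : TF σ U)

section basic

variable (h2 : (2 : K) = 0)
include h2

theorem mem_B_iff {π : U →* H3 K} (P : Pi T π) {g : U} : g ∈ T.QB ↔ (π g).t = 0 := by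
  refine ⟨P.B_t, fun h => ?_⟩
  obtain ⟨c, rfl⟩ := T.bij.2 g
  have h3 : (π (T.el c)).t = 0 := h
  rw [P.el_t] at h3
  show T.x1 c.a1 * _ * _ * _ * _ * _ * _ * _ ∈ _
  rw [h3, x1_0, one_mul]
  exact mul_mem (mul_mem (mul_mem (mul_mem (mul_mem (mul_mem (x2_B _ _) (x3_B _)) (x4_B _ _)) (x5_B _)) (x6_B _ _))
    (x7_B _)) (x8_B _ _)

theorem conj_mem_B {g : U} (x : U) : x * g * x⁻¹ ∈ T.QB ↔ g ∈ T.QB := by
  obtain ⟨π, P⟩ := exists_Pi T h2
  rw [mem_B_iff T h2 P, mem_B_iff T h2 P, map_mul, map_mul, map_inv, H3.mul_t, H3.mul_t, H3.inv_t]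
  constructor
  · intro h
    linear_combination h
  · intro h
    rw [h]
    ring

theorem exists_conj (x : U) : ∃ γ : MulAut T.QB, ∀ e : T.QB, ((γ e : T.QB) : U) = x * e * x⁻¹ := by
  apply exists_conjAut
  rw [Subgroup.mem_normalizer_iff]
  intro g
  exact (conj_mem_B T h2 x).symm

theorem exists_conj_aut (x : U) : ∃ γ ∈ autInducedBy ⊤ T.QB, ∀ e : T.QB, ((γ e : T.QB) : U) = x * e * x⁻¹ := by
  obtain ⟨γ, hγ⟩ := exists_conj T h2 x
  exact ⟨γ, (mem_autInducedBy_iff _ _ _).2 ⟨x, Subgroup.mem_top x, hγ⟩, hγ⟩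

theorem exists_x1 (x : U) : ∃ t, ∃ b ∈ T.QB, x = T.x1 t * b := by
  obtain ⟨c, rfl⟩ := T.bij.2 x
  refine ⟨c.a1, T.x2 c.a2 c.b2 * T.x3 c.a3 * T.x4 c.a4 c.b4 * T.x5 c.a5 * T.x6 c.a6 c.b6 * T.x7 c.a7 * T.x8 c.a8 c.b8,
    mul_mem (mul_mem (mul_mem (mul_mem (mul_mem (mul_mem (x2_B _ _) (x3_B _)) (x4_B _ _)) (x5_B _)) (x6_B _ _))
    (x7_B _)) (x8_B _ _), ?_⟩
  show T.x1 c.a1 * T.x2 c.a2 c.b2 * T.x3 c.a3 * T.x4 c.a4 c.b4 * T.x5 c.a5 * T.x6 c.a6 c.b6 * T.x7 c.a7 *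
      T.x8 c.a8 c.b8 = _
  simp only [mul_assoc]

theorem x1_vv (t : K) (u : K × K) : T.x1 t * vv T u = vv T (u.1 + t * u.2, u.2) * T.x1 t := by
  have R := T.rel
  have h6 : T.x1 t * T.x6 0 u.2 = T.x6 0 u.2 * T.x1 t * T.x4 0 (t * u.2) := by
    rw [R.r16]
    simp only [map_zero, mul_zero, zero_add, x2_0, x3_0, mul_one]
  have h4 := z4_comm T u.1 (T.x1 t)
  have e4 : T.x4 0 (u.1 + t * u.2) = T.x4 0 (t * u.2) * T.x4 0 u.1 := by
    rw [R.m4, map_zero, mul_zero, add_zero, add_zero, add_comm]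
  show T.x1 t * (T.x4 0 u.1 * T.x6 0 u.2) = T.x4 0 (u.1 + t * u.2) * T.x6 0 u.2 * T.x1 t
  calc T.x1 t * (T.x4 0 u.1 * T.x6 0 u.2) = (T.x1 t * T.x4 0 u.1) * T.x6 0 u.2 := by group
    _ = T.x4 0 u.1 * (T.x1 t * T.x6 0 u.2) := by rw [← h4]; group
    _ = T.x4 0 u.1 * T.x6 0 u.2 * T.x1 t * T.x4 0 (t * u.2) := by rw [h6]; group
    _ = T.x4 0 (t * u.2) * (T.x4 0 u.1 * T.x6 0 u.2 * T.x1 t) := (z4_comm T _ _).symm
    _ = _ := by rw [e4]; group

theorem pi_conj {γ : MulAut T.QB} {t : K} {b : U} (hb : b ∈ T.QB)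
    (hγ : ∀ e : T.QB, ((γ e : T.QB) : U) = T.x1 t * b * e * (T.x1 t * b)⁻¹) : pi T h2 γ = tau t := by
  apply ext'
  intro u
  apply pi_eq
  rw [hγ, tau_apply]
  show T.x1 t * b * vv T u * (T.x1 t * b)⁻¹ = _
  rw [mul_inv_eq_iff_eq_mul, mul_assoc, ← vv_comm T h2 u hb, ← mul_assoc, x1_vv T h2, mul_assoc]

theorem pi_mem_TG {γ : MulAut T.QB} (hγ : γ ∈ autInducedBy ⊤ T.QB) : pi T h2 γ ∈ TG K := by
  obtain ⟨x, -, hx⟩ := (mem_autInducedBy_iff _ _ _).1 hγ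
  obtain ⟨t, b, hb, rfl⟩ := exists_x1 T h2 x
  rw [pi_conj T h2 hb hx]
  exact tau_mem _

theorem exists_of_mem_TG {g : A2 K} (hg : g ∈ TG K) : ∃ γ ∈ autInducedBy ⊤ T.QB, pi T h2 γ = g := by
  obtain ⟨r, rfl⟩ := hg
  obtain ⟨γ, hγ, hx⟩ := exists_conj_aut T h2 (T.x1 r)
  exact ⟨γ, hγ, pi_conj T h2 (one_mem _) (by simpa using hx)⟩

theorem pi_tor {δ : MulAut T.QB} {d : MulAut U} {f g : K} {τ : K ≃+* K} (hd : T.IsTor d f g τ) (hδ : TF.IsR d δ)
    (u : K × K) : pi T h2 δ u = (σ (f * g) * g * σ (σ (f * g) * g) * τ u.1, f * g * σ g * σ (f * g * σ g) * τ u.2) := by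
  apply pi_eq
  rw [hδ]
  show d (T.x4 0 u.1 * T.x6 0 u.2) = _
  rw [map_mul, hd.e4, hd.e6, map_zero, mul_zero, mul_zero]
  rfl

theorem pi_wb {γ : MulAut T.QB} (hγ : T.IsWb γ) (u : K × K) : pi T h2 γ u = (u.2, u.1) := by
  apply pi_eq
  have h1 : vB T u = ⟨T.x4 0 u.1, x4_B _ _⟩ * ⟨T.x6 0 u.2, x6_B _ _⟩ := rfl
  rw [h1, map_mul]
  show ((γ ⟨T.x4 0 u.1, x4_B _ _⟩ : T.QB) : U) * ((γ ⟨T.x6 0 u.2, x6_B _ _⟩ : T.QB) : U) = _
  rw [hγ.e4 _ 0 u.1 rfl, hγ.e6 _ 0 u.2 rfl, ← z4_comm]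
  rfl

theorem IsTor_unique {d d' : MulAut U} {f g : K} {τ : K ≃+* K} (hd : T.IsTor d f g τ) (hd' : T.IsTor d' f g τ) :
    d = d' := by
  have : d.toMonoidHom = d'.toMonoidHom := by
    apply Cfsg.Agent.H805.TF.hom_ext T
    · intro t; exact (hd.e1 t).trans (hd'.e1 t).symm
    · intro p u; exact (hd.e2 p u).trans (hd'.e2 p u).symm
    · intro t; exact (hd.e3 t).trans (hd'.e3 t).symm
    · intro p u; exact (hd.e4 p u).trans (hd'.e4 p u).symm
    · intro t; exact (hd.e5 t).trans (hd'.e5 t).symm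
    · intro p u; exact (hd.e6 p u).trans (hd'.e6 p u).symm
    · intro t; exact (hd.e7 t).trans (hd'.e7 t).symm
    · intro p u; exact (hd.e8 p u).trans (hd'.e8 p u).symm
  ext1 x
  exact DFunLike.congr_fun this x

omit h2 in
theorem isTor_one : T.IsTor (1 : MulAut U) 1 1 (RingEquiv.refl K) := by
  refine ⟨one_ne_zero, one_ne_zero, ?_, ?_, ?_, ?_, ?_, ?_, ?_, ?_⟩ <;> intros <;> simp

theorem exists_restr {d : MulAut U} {f g : K} {τ : K ≃+* K} (hd : T.IsTor d f g τ) :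
    ∃ δ : MulAut T.QB, TF.IsR d δ := by
  obtain ⟨π, P⟩ := exists_Pi T h2
  have key : ∀ x, (π (d x)).t = f * τ (π x).t := by
    intro x
    obtain ⟨c, rfl⟩ := T.bij.2 x
    show (π (d (T.el c))).t = f * τ (π (T.el c)).t
    rw [P.el_t]
    unfold TF.el
    simp only [map_mul, hd.e1, hd.e2, hd.e3, hd.e4, hd.e5, hd.e6, hd.e7, hd.e8, H3.mul_t, P.e1, P.e2, P.e3, P.e4, P.e5,
      P.e6, P.e7, P.e8, H3.one_t, add_zero]
  have hmem : ∀ x : U, d x ∈ T.QB ↔ x ∈ T.QB := by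
    intro x
    rw [mem_B_iff T h2 P, mem_B_iff T h2 P, key, mul_eq_zero, map_eq_zero]
    simp [hd.nf]
  refine ⟨{ toFun := fun e => ⟨d e, (hmem _).2 e.2⟩
            invFun := fun e => ⟨d.symm e, (hmem _).1 (by rw [MulEquiv.apply_symm_apply]; exact e.2)⟩
            left_inv := fun e => Subtype.ext (d.symm_apply_apply _)
            right_inv := fun e => Subtype.ext (d.apply_symm_apply _)
            map_mul' := fun x y => Subtype.ext (map_mul d _ _) }, fun e => rfl⟩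

end basic

section fld

variable (hK : HypK σ m)
include hK

theorem ns_inj {y : K} (h : y * σ y = 1) : y = 1 := by
  have hy : y ≠ 0 := by
    rintro rfl
    rw [zero_mul] at h
    exact zero_ne_one h
  have h1 : σ y = y⁻¹ := (eq_inv_of_mul_eq_one_right h)
  have h3 : σ (σ y) = y := by rw [h1, map_inv₀, h1, inv_inv]
  rw [hK.sq] at h3
  have h4 : y * (y - 1) = 0 := by linear_combination h3
  rcases mul_eq_zero.1 h4 with h5 | h5
  · exact absurd h5 hy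
  · linear_combination h5

theorem fg_one {f g : K} (hg : g ≠ 0) (h4 : σ (f * g) * g * σ (σ (f * g) * g) = 1)
    (h6 : f * g * σ g * σ (f * g * σ g) = 1) : f = 1 ∧ g = 1 := by
  have e4 := ns_inj hK h4
  have e6 := ns_inj hK h6
  have hsg : σ g ≠ 0 := by rwa [ne_eq, map_eq_zero]
  have h1 : f * g = (σ g)⁻¹ := eq_inv_of_mul_eq_one_left e6
  rw [h1, map_inv₀, hK.sq] at e4
  have hg1 : g = 1 := by
    field_simp at e4
    exact e4.symm
  subst hg1
  refine ⟨?_, rfl⟩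
  rwa [map_one, inv_one, mul_one] at h1

end fld

section Gamma

variable (hK : HypK σ m) (hG : StGrp.{u, v})
include T hK hG

theorem pow_U (x : U) : ∃ k, x ^ 2 ^ k = 1 := by
  obtain ⟨k, hk⟩ := (hG hK T).2.1 ⟨x, Subgroup.mem_top x⟩
  exact ⟨k, congrArg Subtype.val hk⟩

theorem finite_U : Finite U := by
  have := (hG hK T).1
  apply Nat.finite_of_card_ne_zero
  rw [this]
  positivity

theorem finite_aut : Finite (MulAut T.QB) := by
  have : Finite U := finite_U T hK hG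
  exact Finite.of_injective (fun e : MulAut T.QB => (e : T.QB → T.QB)) DFunLike.coe_injective

theorem pow_aut {γ : MulAut T.QB} (hγ : γ ∈ autInducedBy ⊤ T.QB) : ∃ k, γ ^ 2 ^ k = 1 := by
  obtain ⟨x, -, hx⟩ := (mem_autInducedBy_iff _ _ _).1 hγ
  obtain ⟨k, hk⟩ := pow_U T hK hG x
  refine ⟨k, ?_⟩
  have key : ∀ j : ℕ, ∀ e : T.QB, (((γ ^ j) e : T.QB) : U) = x ^ j * e * (x ^ j)⁻¹ := by
    intro j
    induction j with
    | zero => intro e; simp
    | succ j ih =>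
      intro e
      rw [pow_succ', MulAut.mul_apply, hx, ih, pow_succ']
      group
  ext1 e
  apply Subtype.ext
  rw [key, hk]
  simp

variable {T} (hTI : StTIB.{u, v}) {Γ : Subgroup (MulAut T.QB)} {D : Subgroup (MulAut U)} (hp : T.Par T.QB Γ D)
include hTI hp

/-- an element of the kernel is a conjugation by an element of `QB` -/
theorem ker_form {γ : MulAut T.QB} (hγ : γ ∈ Γ) (h1 : pi T hK.two γ = 1) :
    ∃ b ∈ T.QB, ∀ e : T.QB, ((γ e : T.QB) : U) = b * e * b⁻¹ := by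
  have hN : NormAut ⊤ γ := by
    refine hTI hK T Γ hp.indu hp.syl γ hγ fun u => ⟨u, ?_⟩
    rw [pi_spec T hK.two, h1]
    rfl
  obtain ⟨x, d, hd, hx⟩ := hp.norm γ hγ hN
  obtain ⟨f, g, τ, hdt⟩ := (hG hK T).2.2.2.1 d (hp.D_le hd)
  obtain ⟨δ, hδ⟩ := exists_restr T hK.two hdt
  obtain ⟨t, b, hb, rfl⟩ := exists_x1 T hK.two x
  obtain ⟨c, hc⟩ := exists_conj T hK.two (T.x1 t * b)
  have hγc : γ = c * δ := by
    ext1 e
    apply Subtype.ext
    rw [MulAut.mul_apply, hc, hδ, hx]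
  have h3 : ∀ u : K × K, (σ (f * g) * g * σ (σ (f * g) * g) * τ u.1 + t * (f * g * σ g * σ (f * g * σ g) * τ u.2),
      f * g * σ g * σ (f * g * σ g) * τ u.2) = u := by
    intro u
    have h4 : pi T hK.two γ u = u := by rw [h1]; rfl
    rw [hγc, map_mul, LinearEquiv.mul_apply, pi_conj T hK.two hb hc, tau_apply, pi_tor T hK.two hdt hδ] at h4
    exact h4
  have e4 : σ (f * g) * g * σ (σ (f * g) * g) = 1 := by
    have := congrArg Prod.fst (h3 (1, 0))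
    simpa using this
  have e6 : f * g * σ g * σ (f * g * σ g) = 1 := by
    have := congrArg Prod.snd (h3 (0, 1))
    simpa using this
  obtain ⟨rfl, rfl⟩ := fg_one hK hdt.ng e4 e6
  have ht : t = 0 := by
    have := congrArg Prod.fst (h3 (0, 1))
    simpa using this
  have hτ : τ = RingEquiv.refl K := by
    ext y
    have := congrArg Prod.fst (h3 (y, 0))
    simpa using this
  subst hτ
  have hd1 : d = 1 := IsTor_unique T hK.two hdt (isTor_one T)
  subst hd1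
  subst ht
  refine ⟨b, hb, fun e => ?_⟩
  rw [hx, x1_0, one_mul]
  rfl

theorem ker_le {γ : MulAut T.QB} (hγ : γ ∈ Γ) (h1 : pi T hK.two γ = 1) : γ ∈ autInducedBy ⊤ T.QB := by
  obtain ⟨b, -, hb⟩ := ker_form hK hG hTI hp hγ h1
  exact (mem_autInducedBy_iff _ _ _).2 ⟨b, Subgroup.mem_top b, hb⟩

theorem mem_aut_iff {γ : MulAut T.QB} (hγ : γ ∈ Γ) : pi T hK.two γ ∈ TG K ↔ γ ∈ autInducedBy ⊤ T.QB := by
  constructor
  · intro h1
    obtain ⟨x, hx, hxγ⟩ := exists_of_mem_TG T hK.two h1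
    have h2 : x⁻¹ * γ ∈ autInducedBy ⊤ T.QB := by
      apply ker_le hK hG hTI hp (mul_mem (inv_mem (hp.indu hx)) hγ)
      rw [map_mul, map_inv, hxγ, inv_mul_cancel]
    have h3 := mul_mem hx h2
    rwa [mul_inv_cancel_left] at h3
  · intro h1
    exact pi_mem_TG T hK.two h1

/-- **The hypotheses of `Core`.** -/
theorem hyp : Hyp K 2 (Γ.map (pi T hK.two)) := by
  have := finite_aut T hK hG
  have hchar : CharP K 2 := CharTwo.of_one_ne_zero_of_two_eq_zero one_ne_zero hK.two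
  refine ⟨hK.fin, Nat.prime_two, hchar, ?_, ?_, ?_⟩
  · intro g hg
    obtain ⟨x, hx, rfl⟩ := exists_of_mem_TG T hK.two hg
    exact ⟨x, hp.indu hx, rfl⟩
  · intro P hPG hP hTP
    have hP' : IsPGroup 2 ↥(Γ ⊓ P.comap (pi T hK.two)) := by
      rintro ⟨x, hx, hx1⟩
      obtain ⟨k, hk⟩ := hP ⟨pi T hK.two x, hx1⟩
      have hk' : pi T hK.two x ^ 2 ^ k = 1 := congrArg Subtype.val hk
      have h1 : pi T hK.two (x ^ 2 ^ k) = 1 := by rw [map_pow, hk']
      obtain ⟨j, hj⟩ := pow_aut T hK hG (ker_le hK hG hTI hp (pow_mem hx _) h1)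
      refine ⟨k + j, Subtype.ext ?_⟩
      show x ^ 2 ^ (k + j) = 1
      rw [pow_add, pow_mul, hj]
    obtain ⟨g, hg, hs⟩ := hp.syl _ inf_le_left hP'
    have hA : autInducedBy ⊤ T.QB ≤ Γ ⊓ P.comap (pi T hK.two) := fun x hx =>
      ⟨hp.indu hx, hTP (pi_mem_TG T hK.two hx)⟩
    have hcard : Nat.card ↥(Γ ⊓ P.comap (pi T hK.two)) ≤ Nat.card ↥(autInducedBy ⊤ T.QB) := by
      refine Nat.card_le_card_of_injective (fun x => ⟨g * x.1 * g⁻¹, hs x.1 x.2⟩) ?_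
      intro x y hxy
      have h1 : g * x.1 * g⁻¹ = g * y.1 * g⁻¹ := congrArg Subtype.val hxy
      exact Subtype.ext (mul_left_cancel (mul_right_cancel h1))
    have heq := Subgroup.eq_of_le_of_card_ge hA hcard
    intro y hy
    obtain ⟨x, hx, rfl⟩ := hPG hy
    have h2 : x ∈ Γ ⊓ P.comap (pi T hK.two) := ⟨hx, hy⟩
    rw [← heq] at h2
    exact pi_mem_TG T hK.two h2
  · by_contra hno
    push Not at hno
    apply hp.nn
    intro γ hγ x hx
    have h1 := hno (pi T hK.two γ) ⟨γ, hγ, rfl⟩ (pi T hK.two x) (pi_mem_TG T hK.two hx)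
    rw [← map_inv, ← map_mul, ← map_mul] at h1
    exact (mem_aut_iff hK hG hTI hp (mul_mem (mul_mem hγ (hp.indu hx)) (inv_mem hγ))).1 h1

/-- elements which normalize the root group -/
theorem norm_form {γ : MulAut T.QB} (hγ : γ ∈ Γ) (hn : ∀ t ∈ TG K, pi T hK.two γ * t * (pi T hK.two γ)⁻¹ ∈ TG K) :
    ∃ (c : MulAut T.QB) (r : K) (d : MulAut U) (f g : K) (τ : K ≃+* K) (δ : MulAut T.QB), c ∈ autInducedBy ⊤ T.QB ∧
      pi T hK.two c = tau r ∧ d ∈ D ∧ T.IsTor d f g τ ∧ TF.IsR d δ ∧ γ = c * δ := by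
  have h1 : NormAut ⊤ γ := by
    intro x hx
    have h2 := hn _ (pi_mem_TG T hK.two hx)
    rw [← map_inv, ← map_mul, ← map_mul] at h2
    exact (mem_aut_iff hK hG hTI hp (mul_mem (mul_mem hγ (hp.indu hx)) (inv_mem hγ))).1 h2
  obtain ⟨x, d, hd, hx⟩ := hp.norm γ hγ h1
  obtain ⟨f, g, τ, hdt⟩ := (hG hK T).2.2.2.1 d (hp.D_le hd)
  obtain ⟨δ, hδ⟩ := exists_restr T hK.two hdt
  obtain ⟨c, hcA, hc⟩ := exists_conj_aut T hK.two x
  obtain ⟨t, b, hb, rfl⟩ := exists_x1 T hK.two x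
  refine ⟨c, t, d, f, g, τ, δ, hcA, pi_conj T hK.two hb hc, hd, hdt, hδ, ?_⟩
  ext1 e
  apply Subtype.ext
  rw [MulAut.mul_apply, hc, hδ, hx]

/-- the diagonal elements -/
theorem diag_step {ψ : K →+ K}
    (h1 : ∀ M : Matrix.SpecialLinearGroup (Fin 2) K, ∃ l ∈ LG (Γ.map (pi T hK.two)), ∀ u,
      sh ψ (l u) = ml (M : Matrix (Fin 2) (Fin 2) K) (sh ψ u)) {t : K} (ht : t ≠ 0) :
    (∃ d ∈ D, ∃ f g : K, T.IsTor d f g (RingEquiv.refl K) ∧ σ (f * g) * g * σ (σ (f * g) * g) = t ∧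
      f * g * σ g * σ (f * g * σ g) = t⁻¹) ∧ ∃ r : K, ∀ u : K, r * (t⁻¹ * u) + ψ (t⁻¹ * u) = t * ψ u := by
  have hH := hyp hK hG hTI hp
  obtain ⟨l, hl, hM⟩ := h1 ⟨!![t, 0; 0, t⁻¹], by rw [Matrix.det_fin_two_of, mul_inv_cancel₀ ht]; ring⟩
  have hM' : ∀ u, sh ψ (l u) = (t * (sh ψ u).1, t⁻¹ * (sh ψ u).2) := by
    intro u
    rw [hM]
    apply Prod.ext
    · show t * _ + 0 * _ = _
      ring
    · show 0 * _ + t⁻¹ * _ = _
      ring
  have hinj : ∀ u v, sh ψ u = sh ψ v → u = v := by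
    intro u v huv
    have e2' : (sh ψ u).2 = (sh ψ v).2 := by rw [huv]
    have e1' : (sh ψ u).1 = (sh ψ v).1 := by rw [huv]
    have e2 : u.2 = v.2 := e2'
    have e1 : u.1 + ψ u.2 = v.1 + ψ v.2 := e1'
    rw [e2] at e1
    exact Prod.ext (add_right_cancel e1) e2
  have htau : ∀ r u, sh ψ (tau r u) = tau r (sh ψ u) := by
    intro r u
    apply Prod.ext
    · show u.1 + r * u.2 + ψ u.2 = u.1 + ψ u.2 + r * u.2
      ring
    · rfl
  obtain ⟨γ, hγ, rfl⟩ := LG_le hH.le hl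
  have hn : ∀ s ∈ TG K, pi T hK.two γ * s * (pi T hK.two γ)⁻¹ ∈ TG K := by
    rintro _ ⟨r, rfl⟩
    refine ⟨t * r * t, ?_⟩
    rw [mul_inv_eq_iff_eq_mul]
    apply ext'
    intro u
    rw [LinearEquiv.mul_apply, LinearEquiv.mul_apply]
    apply hinj
    rw [hM', htau, htau, hM']
    apply Prod.ext
    · show t * ((sh ψ u).1 + r * (sh ψ u).2) = t * (sh ψ u).1 + t * r * t * (t⁻¹ * (sh ψ u).2)
      field_simp
    · rfl
  obtain ⟨c, r, d, f, g, τ, δ, hcA, hcr, hd, hdt, hδ, hγc⟩ := norm_form hK hG hTI hp hγ hn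
  obtain ⟨c4, hc4⟩ : ∃ c4, c4 = σ (f * g) * g * σ (σ (f * g) * g) := ⟨_, rfl⟩
  obtain ⟨c6, hc6⟩ : ∃ c6, c6 = f * g * σ g * σ (f * g * σ g) := ⟨_, rfl⟩
  have hlu : ∀ u : K × K, pi T hK.two γ u = (c4 * τ u.1 + r * (c6 * τ u.2), c6 * τ u.2) := by
    intro u
    rw [hγc, map_mul, LinearEquiv.mul_apply, pi_tor T hK.two hdt hδ, hcr, tau_apply, ← hc4, ← hc6]
  have hx1 : ∀ x, c4 * τ x = t * x := by
    intro x
    have h2 := congrArg Prod.fst (hM' (x, 0))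
    rw [hlu] at h2
    simp only [sh, map_zero, mul_zero, add_zero] at h2
    exact h2
  have hx2 : ∀ x, c6 * τ x = t⁻¹ * x := by
    intro x
    have h2 := congrArg Prod.snd (hM' (0, x))
    rw [hlu] at h2
    exact h2
  have ex1 : c4 = t := by
    have := hx1 1
    rwa [map_one, mul_one, mul_one] at this
  have ex2 : c6 = t⁻¹ := by
    have := hx2 1
    rwa [map_one, mul_one, mul_one] at this
  have eτ : τ = RingEquiv.refl K := by
    ext x
    have := hx1 x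
    rw [ex1] at this
    exact mul_left_cancel₀ ht this
  subst eτ
  refine ⟨⟨d, hd, f, g, hdt, hc4.symm.trans ex1, hc6.symm.trans ex2⟩, r, fun u => ?_⟩
  have h2 := congrArg Prod.fst (hM' (0, u))
  rw [hlu] at h2
  simp only [sh, map_zero, mul_zero, zero_add, hx2] at h2
  exact h2

end Gamma

/-- **(LB1)** -/
theorem stLB1 (hG : StGrp.{u, v}) (hTI : StTIB.{u, v}) : StLB1.{u, v} := by
  intro K _ σ m hK _ U _ T Γ D hp y hy α hα
  have hH := hyp hK hG hTI hp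
  obtain ⟨ψ, h1, -⟩ := hH.exists_shear
  obtain ⟨⟨d, hd, f, g, hdt, h4, h6⟩, -⟩ := diag_step hK hG hTI hp h1 (t := y⁻¹) (inv_ne_zero hy)
  have hf := hdt.nf
  have hg := hdt.ng
  have h5 : (f * g ^ 2) * σ (f * g ^ 2) = 1 := by
    have h7 : (f * g ^ 2 * σ (f * g ^ 2)) * σ ((f * g ^ 2) * σ (f * g ^ 2)) = 1 := by
      have h8 : (σ (f * g) * g * σ (σ (f * g) * g)) * (f * g * σ g * σ (f * g * σ g)) = 1 := by
        rw [h4, h6, inv_inv, inv_mul_cancel₀ hy]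
      rw [← h8]
      simp only [map_mul, map_pow]
      ring
    exact ns_inj hK h7
  have h5' : f * g ^ 2 = 1 := ns_inj hK h5
  have ef : f = (g ^ 2)⁻¹ := eq_inv_of_mul_eq_one_left h5'
  have eg : g = y := by
    have h9 : f * g = g⁻¹ := by
      rw [ef]; field_simp
    rw [h9] at h4
    simp only [map_mul, map_inv₀, hK.sq] at h4
    have hsg : σ g ≠ 0 := by rwa [ne_eq, map_eq_zero]
    field_simp at h4
    exact h4.symm
  rw [ef, eg] at hdt
  rw [IsTor_unique T hK.two hα hdt]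
  exact hd

end Cfsg.Agent.H7.TF

end

section

namespace Cfsg.Agent.H7.TF

open Matrix Cfsg Cfsg.FusionSystem Cfsg.Agent.H756.PU Cfsg.Agent.H745.TF Cfsg.Agent.H7.PU.Core Cfsg.Agent.H7.PU.Shear
open Cfsg.Agent.H659.TF (x2_B x3_B x4_B x5_B x6_B x7_B x8_B exists_Pi Pi H3 exists_sq)
open Cfsg.Agent.H802 (exists_conjAut mem_autInducedBy_iff)
open Cfsg.Agent.Omega.BTwo (cj mem_cj)

universe u v

variable {K : Type u} [Field K] {σ : K →+* K} {m : ℕ} {U : Type v} [Group U] (T : TF σ U)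

/-! ### maps of `QB` -/

section ext

variable (h2 : (2 : K) = 0)
include h2

theorem ext_B {α β : MulAut T.QB} (e2 : ∀ p u, α ⟨T.x2 p u, x2_B p u⟩ = β ⟨T.x2 p u, x2_B p u⟩)
    (e3 : ∀ t, α ⟨T.x3 t, x3_B t⟩ = β ⟨T.x3 t, x3_B t⟩) (e4 : ∀ p u, α ⟨T.x4 p u, x4_B p u⟩ = β ⟨T.x4 p u, x4_B p u⟩)
    (e5 : ∀ t, α ⟨T.x5 t, x5_B t⟩ = β ⟨T.x5 t, x5_B t⟩) (e6 : ∀ p u, α ⟨T.x6 p u, x6_B p u⟩ = β ⟨T.x6 p u, x6_B p u⟩)
    (e7 : ∀ t, α ⟨T.x7 t, x7_B t⟩ = β ⟨T.x7 t, x7_B t⟩) (e8 : ∀ p u, α ⟨T.x8 p u, x8_B p u⟩ = β ⟨T.x8 p u, x8_B p u⟩) :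
    α = β := by
  ext1 e
  obtain ⟨g, hg⟩ := e
  obtain ⟨a2, b2, a3, a4, b4, a5, a6, b6, a7, a8, b8, rfl⟩ := exists_B T h2 hg
  have key : (⟨_, hg⟩ : T.QB) = ⟨T.x2 a2 b2, x2_B _ _⟩ * ⟨T.x3 a3, x3_B _⟩ * ⟨T.x4 a4 b4, x4_B _ _⟩ * ⟨T.x5 a5, x5_B _⟩ *
      ⟨T.x6 a6 b6, x6_B _ _⟩ * ⟨T.x7 a7, x7_B _⟩ * ⟨T.x8 a8 b8, x8_B _ _⟩ := rfl
  rw [key]
  simp only [map_mul, e2, e3, e4, e5, e6, e7, e8]

end ext

/-! ### the torus -/

section torus

theorem tor_mul {d d' : MulAut U} {f g f' g' : K} (h : T.IsTor d f g (RingEquiv.refl K))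
    (h' : T.IsTor d' f' g' (RingEquiv.refl K)) : T.IsTor (d * d') (f * f') (g * g') (RingEquiv.refl K) := by
  refine ⟨mul_ne_zero h.nf h'.nf, mul_ne_zero h.ng h'.ng, ?_, ?_, ?_, ?_, ?_, ?_, ?_, ?_⟩
  · intro t
    rw [MulAut.mul_apply, h'.e1, h.e1]
    congr 1
    simp only [RingEquiv.refl_apply]
    ring
  · intro p u
    rw [MulAut.mul_apply, h'.e2, h.e2]
    congr 1 <;> (simp only [RingEquiv.refl_apply, map_mul]; ring)
  · intro t
    rw [MulAut.mul_apply, h'.e3, h.e3]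
    congr 1
    simp only [RingEquiv.refl_apply, map_mul]
    ring
  · intro p u
    rw [MulAut.mul_apply, h'.e4, h.e4]
    congr 1 <;> (simp only [RingEquiv.refl_apply, map_mul]; ring)
  · intro t
    rw [MulAut.mul_apply, h'.e5, h.e5]
    congr 1
    simp only [RingEquiv.refl_apply, map_mul]
    ring
  · intro p u
    rw [MulAut.mul_apply, h'.e6, h.e6]
    congr 1 <;> (simp only [RingEquiv.refl_apply, map_mul]; ring)
  · intro t
    rw [MulAut.mul_apply, h'.e7, h.e7]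
    congr 1
    simp only [RingEquiv.refl_apply, map_mul]
    ring
  · intro p u
    rw [MulAut.mul_apply, h'.e8, h.e8]
    congr 1 <;> (simp only [RingEquiv.refl_apply, map_mul]; ring)

theorem tor_one : T.IsTor (1 : MulAut U) 1 1 (RingEquiv.refl K) := isTor_one T

/-- the torus on `QB` -/
def TB (T : TF σ U) : Set (MulAut T.QB) := {δ | ∃ d f g, T.IsTor d f g (RingEquiv.refl K) ∧ TF.IsR d δ}

variable (hK : HypK σ m) (hG : StGrp.{u, v})
include hK hG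

/-- existence of torus elements -/
theorem exists_tor {f g : K} (hf : f ≠ 0) (hg : g ≠ 0) : ∃ (d : MulAut U) (δ : MulAut T.QB),
    T.IsTor d f g (RingEquiv.refl K) ∧ TF.IsR d δ := by
  obtain ⟨d, hd⟩ := (hG hK T).2.2.1 f g (RingEquiv.refl K) hf hg
  obtain ⟨δ, hδ⟩ := exists_restr T hK.two hd
  exact ⟨d, δ, hd, hδ⟩

/-- the torus as a group -/
noncomputable def TBar : Subgroup (MulAut T.QB) where
  carrier := TB T
  one_mem' := ⟨1, 1, 1, tor_one T, fun _ => rfl⟩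
  mul_mem' := by
    rintro a b ⟨d, f, g, hd, hda⟩ ⟨d', f', g', hd', hdb⟩
    refine ⟨d * d', f * f', g * g', tor_mul T hd hd', fun e => ?_⟩
    rw [MulAut.mul_apply, MulAut.mul_apply, hda, hdb]
  inv_mem' := by
    rintro a ⟨d, f, g, hd, hda⟩
    obtain ⟨d', δ', hd', hδ'⟩ := exists_tor T hK hG (inv_ne_zero hd.nf) (inv_ne_zero hd.ng)
    have h1 : T.IsTor (d * d') 1 1 (RingEquiv.refl K) := by
      have := tor_mul T hd hd'
      rwa [mul_inv_cancel₀ hd.nf, mul_inv_cancel₀ hd.ng] at this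
    have h3 : d * d' = 1 := IsTor_unique T hK.two h1 (tor_one T)
    have h4 : a * δ' = 1 := by
      ext1 e
      apply Subtype.ext
      rw [MulAut.mul_apply, hda, hδ', ← MulAut.mul_apply, h3]
      rfl
    rw [inv_eq_of_mul_eq_one_right h4]
    exact ⟨d', _, _, hd', hδ'⟩

theorem mem_TBar {δ : MulAut T.QB} : δ ∈ TBar T hK hG ↔
    ∃ d f g, T.IsTor d f g (RingEquiv.refl K) ∧ TF.IsR d δ := Iff.rfl

/-- `V` is a faithful module for the torus -/
theorem tbar_inj {δ : MulAut T.QB} (hδ : δ ∈ TBar T hK hG) (h1 : pi T hK.two δ = 1) : δ = 1 := by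
  obtain ⟨d, f, g, hd, hdδ⟩ := hδ
  have h3 : ∀ u : K × K, (σ (f * g) * g * σ (σ (f * g) * g) * u.1, f * g * σ g * σ (f * g * σ g) * u.2) = u := by
    intro u
    have h4 : pi T hK.two δ u = u := by rw [h1]; rfl
    rw [pi_tor T hK.two hd hdδ] at h4
    exact h4
  have e4 : σ (f * g) * g * σ (σ (f * g) * g) = 1 := by
    have := congrArg Prod.fst (h3 (1, 0))
    simpa using this
  have e6 : f * g * σ g * σ (f * g * σ g) = 1 := by
    have := congrArg Prod.snd (h3 (0, 1))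
    simpa using this
  obtain ⟨rfl, rfl⟩ := fg_one hK hd.ng e4 e6
  have hd1 : d = 1 := IsTor_unique T hK.two hd (isTor_one T)
  subst hd1
  ext1 e
  exact Subtype.ext (hdδ e)

theorem tbar_eq {δ δ' : MulAut T.QB} (hδ : δ ∈ TBar T hK hG) (hδ' : δ' ∈ TBar T hK hG)
    (h1 : pi T hK.two δ = pi T hK.two δ') : δ = δ' := by
  have h3 : δ * δ'⁻¹ = 1 := by
    apply tbar_inj T hK hG (mul_mem hδ (inv_mem hδ'))
    rw [map_mul, map_inv, h1, mul_inv_cancel]
  exact mul_inv_eq_one.1 h3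

theorem odd_TBar : Odd (Nat.card (TBar T hK hG)) := by
  have := finite_aut T hK hG
  rw [← Nat.not_even_iff_odd, even_iff_two_dvd]
  intro hdvd
  have : Fact (Nat.Prime 2) := ⟨Nat.prime_two⟩
  obtain ⟨⟨δ, hδ⟩, hord⟩ := exists_prime_orderOf_dvd_card' 2 hdvd
  have hδ2 : δ * δ = 1 := by
    have h1 := pow_orderOf_eq_one (⟨δ, hδ⟩ : TBar T hK hG)
    rw [hord, sq] at h1
    exact congrArg Subtype.val h1
  have hne : δ ≠ 1 := by
    intro h1
    have h3 : orderOf (⟨δ, hδ⟩ : TBar T hK hG) = 1 := orderOf_eq_one_iff.2 (Subtype.ext h1)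
    omega
  apply hne
  obtain ⟨d, f, g, hd, hdδ⟩ := hδ
  have h3 : ∀ u : K × K, (σ (f * f * (g * g)) * (g * g) * σ (σ (f * f * (g * g)) * (g * g)) * u.1,
      f * f * (g * g) * σ (g * g) * σ (f * f * (g * g) * σ (g * g)) * u.2) = u := by
    intro u
    have h4 : pi T hK.two (δ * δ) u = u := by rw [hδ2, map_one]; rfl
    rw [pi_tor T hK.two (tor_mul T hd hd) (fun e => by
      rw [MulAut.mul_apply, MulAut.mul_apply, hdδ, hdδ])] at h4
    exact h4
  have e4 : σ (f * f * (g * g)) * (g * g) * σ (σ (f * f * (g * g)) * (g * g)) = 1 := by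
    have := congrArg Prod.fst (h3 (1, 0))
    simpa using this
  have e6 : f * f * (g * g) * σ (g * g) * σ (f * f * (g * g) * σ (g * g)) = 1 := by
    have := congrArg Prod.snd (h3 (0, 1))
    simpa using this
  obtain ⟨hf, hg⟩ := fg_one hK (mul_ne_zero hd.ng hd.ng) e4 e6
  have hsq : ∀ x : K, x * x = 1 → x = 1 := by
    intro x hx
    have h5 : (x - 1) * (x - 1) = 0 := by linear_combination hx + (1 - x) * hK.two
    have h6 := mul_self_eq_zero.1 h5
    linear_combination h6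
  rw [hsq f hf, hsq g hg] at hd
  have hd1 : d = 1 := IsTor_unique T hK.two hd (isTor_one T)
  subst hd1
  ext1 e
  exact Subtype.ext (hdδ e)

omit hG in
theorem exists_quot {c : K} (hc : c ≠ 0) : ∃ y : K, y ≠ 0 ∧ y * (σ y)⁻¹ = c := by
  have := hK.fin
  let f : Kˣ →* Kˣ := MonoidHom.id Kˣ * (Units.map (σ : K →* K))⁻¹
  have hfv : ∀ z : Kˣ, ((f z : Kˣ) : K) = z * (σ z)⁻¹ := by
    intro z
    show ((z * (Units.map (σ : K →* K) z)⁻¹ : Kˣ) : K) = _
    rw [Units.val_mul, Units.val_inv_eq_inv_val]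
    rfl
  have hf : Function.Injective f := by
    rw [injective_iff_map_eq_one]
    intro z hz
    have h1 : (z : K) * (σ z)⁻¹ = 1 := by
      rw [← hfv, hz]; rfl
    have hσz : σ (z : K) ≠ 0 := by
      rw [ne_eq, map_eq_zero]; exact z.ne_zero
    have h3 : σ (z : K) = z := by
      field_simp at h1
      exact h1.symm
    have h4 : σ (σ (z : K)) = z := by rw [h3, h3]
    rw [hK.sq] at h4
    have h5 : (z : K) * (z - 1) = 0 := by linear_combination h4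
    rcases mul_eq_zero.1 h5 with h6 | h6
    · exact absurd h6 z.ne_zero
    · exact Units.ext (by rw [Units.val_one]; linear_combination h6)
  obtain ⟨y, hy⟩ := Finite.surjective_of_injective hf (Units.mk0 c hc)
  refine ⟨y, y.ne_zero, ?_⟩
  rw [← hfv, hy, Units.val_mk0]

/-- the torus lies in `D` -/
theorem tor_mem_D {D : Subgroup (MulAut U)} (hA : T.HasA D) (hB : T.HasB D) {d : MulAut U} {f g : K}
    (hd : T.IsTor d f g (RingEquiv.refl K)) : d ∈ D := by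
  have hg := hd.ng
  have hf := hd.nf
  obtain ⟨y, hy0, hy⟩ := exists_quot hK (mul_ne_zero hf (pow_ne_zero 2 hg))
  have hσy : σ y ≠ 0 := by rwa [ne_eq, map_eq_zero]
  obtain ⟨da, -, hda, -⟩ := exists_tor T hK hG (mul_ne_zero hy0 hσy) (inv_ne_zero hσy)
  obtain ⟨db, -, hdb, -⟩ := exists_tor T hK hG (inv_ne_zero (pow_ne_zero 2 (mul_ne_zero hg hσy))) (mul_ne_zero hg hσy)
  have h1 := tor_mul T hda hdb
  have e1 : y * σ y * ((g * σ y) ^ 2)⁻¹ = f := by
    have h3 : y = f * g ^ 2 * σ y := by rw [← hy]; field_simp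
    have h4 : y * σ y = f * (g * σ y) ^ 2 := by
      calc y * σ y = f * g ^ 2 * σ y * σ y := by rw [← h3]
        _ = _ := by ring
    rw [h4]
    field_simp
  have e2 : (σ y)⁻¹ * (g * σ y) = g := by field_simp
  rw [e1, e2] at h1
  rw [IsTor_unique T hK.two hd h1]
  exact mul_mem (hA y hy0 da hda) (hB (g * σ y) (mul_ne_zero hg hσy) db hdb)

/-- conjugation by the Weyl element -/
theorem wb_conj {w : MulAut T.QB} (hw : T.IsWb w) {δ : MulAut T.QB} (hδ : δ ∈ TBar T hK hG) :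
    w * δ * w⁻¹ ∈ TBar T hK hG := by
  obtain ⟨d, f, g, hd, hdδ⟩ := hδ
  have hf := hd.nf
  have hg := hd.ng
  have hσf : σ f ≠ 0 := by rwa [ne_eq, map_eq_zero]
  obtain ⟨d', δ', hd', hδ'⟩ := exists_tor T hK hG (inv_ne_zero hf) (mul_ne_zero hf hg)
  have h1 : w * δ = δ' * w := by
    have k : ∀ (x : U) (hx : x ∈ T.QB) (y : U) (hy : y ∈ T.QB) (z : U) (hz : z ∈ T.QB), d x = y → w ⟨y, hy⟩ = ⟨z, hz⟩ →
        d' ((w ⟨x, hx⟩ : T.QB) : U) = z → (w * δ) ⟨x, hx⟩ = (δ' * w) ⟨x, hx⟩ := by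
      intro x hx y hy z hz h3 h4 h5
      have h6 : δ ⟨x, hx⟩ = ⟨y, hy⟩ := Subtype.ext ((hdδ _).trans h3)
      rw [MulAut.mul_apply, h6, h4, MulAut.mul_apply]
      apply Subtype.ext
      rw [hδ']
      exact h5.symm
    apply ext_B T hK.two
    · intro p u
      refine k _ _ _ (x2_B _ _) _ (x8_B _ _) (hd.e2 p u) (Subtype.ext (hw.e2 _ _ _ rfl)) ?_
      rw [hw.e2 _ p u rfl, hd'.e8]
    · intro t
      refine k _ _ _ (x3_B _) _ (x7_B _) (hd.e3 t) (Subtype.ext (hw.e3 _ _ rfl)) ?_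
      rw [hw.e3 _ t rfl, hd'.e7]
      congr 1
      simp only [RingEquiv.refl_apply, map_mul]
      field_simp
    · intro p u
      refine k _ _ _ (x4_B _ _) _ (x6_B _ _) (hd.e4 p u) (Subtype.ext (hw.e4 _ _ _ rfl)) ?_
      rw [hw.e4 _ p u rfl, hd'.e6]
      congr 1 <;> (simp only [RingEquiv.refl_apply, map_mul, map_inv₀, hK.sq]; field_simp)
    · intro t
      refine k _ _ _ (x5_B _) _ (x5_B _) (hd.e5 t) (Subtype.ext (hw.e5 _ _ rfl)) ?_
      rw [hw.e5 _ t rfl, hd'.e5]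
      congr 1
      simp only [RingEquiv.refl_apply, map_mul, map_inv₀]
      field_simp
    · intro p u
      refine k _ _ _ (x6_B _ _) _ (x4_B _ _) (hd.e6 p u) (Subtype.ext (hw.e6 _ _ _ rfl)) ?_
      rw [hw.e6 _ p u rfl, hd'.e4]
      congr 1 <;> (simp only [RingEquiv.refl_apply, map_mul, map_inv₀, hK.sq]; field_simp)
    · intro t
      refine k _ _ _ (x7_B _) _ (x3_B _) (hd.e7 t) (Subtype.ext (hw.e7 _ _ rfl)) ?_
      rw [hw.e7 _ t rfl, hd'.e3]
      congr 1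
      simp only [RingEquiv.refl_apply, map_mul, map_inv₀]
      field_simp
    · intro p u
      refine k _ _ _ (x8_B _ _) _ (x2_B _ _) (hd.e8 p u) (Subtype.ext (hw.e8 _ _ _ rfl)) ?_
      rw [hw.e8 _ p u rfl, hd'.e2]
      congr 1 <;> (simp only [RingEquiv.refl_apply, map_mul, map_inv₀]; field_simp)
  rw [h1, mul_inv_cancel_right]
  exact ⟨d', _, _, hd', hδ'⟩

end torus

end Cfsg.Agent.H7.TF

end

section

namespace Cfsg.Agent.H7.TF

open Matrix Cfsg Cfsg.FusionSystem Cfsg.Agent.H756.PU Cfsg.Agent.H745.TF Cfsg.Agent.H7.PU.Core Cfsg.Agent.H7.PU.Shear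
open Cfsg.Agent.H659.TF (x2_B x3_B x4_B x5_B x6_B x7_B x8_B exists_Pi Pi H3 exists_sq)
open Cfsg.Agent.H802 (exists_conjAut mem_autInducedBy_iff)
open Cfsg.Agent.Omega.BTwo (cj mem_cj)

universe u v

variable {K : Type u} [Field K] {σ : K →+* K} {m : ℕ} {U : Type v} [Group U] (T : TF σ U)

/-- fixed elements of a torus element -/
theorem fix_el {d : MulAut U} {f g : K} (hd : T.IsTor d f g (RingEquiv.refl K)) {a2 b2 a3 a4 b4 a5 a6 b6 a7 a8 b8 : K}
    (h : d (T.x2 a2 b2 * T.x3 a3 * T.x4 a4 b4 * T.x5 a5 * T.x6 a6 b6 * T.x7 a7 * T.x8 a8 b8) =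
      T.x2 a2 b2 * T.x3 a3 * T.x4 a4 b4 * T.x5 a5 * T.x6 a6 b6 * T.x7 a7 * T.x8 a8 b8) :
    f * g * a2 = a2 ∧ f * g * σ (f * g) * b2 = b2 ∧ f * g * σ (f * g) * g * a3 = a3 ∧ σ (f * g) * g * a4 = a4 ∧
      σ (f * g) * g * σ (σ (f * g) * g) * b4 = b4 ∧ f * σ f * g ^ 2 * σ g ^ 2 * a5 = a5 ∧ f * g * σ g * a6 = a6 ∧
      f * g * σ g * σ (f * g * σ g) * b6 = b6 ∧ f * g ^ 2 * σ g * a7 = a7 ∧ g * a8 = a8 ∧ g * σ g * b8 = b8 := by
  simp only [map_mul, hd.e2, hd.e3, hd.e4, hd.e5, hd.e6, hd.e7, hd.e8, RingEquiv.refl_apply] at h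
  have key : ∀ a2 b2 a3 a4 b4 a5 a6 b6 a7 a8 b8 : K, T.el ⟨0, a2, b2, a3, a4, b4, a5, a6, b6, a7, a8, b8⟩ =
      T.x2 a2 b2 * T.x3 a3 * T.x4 a4 b4 * T.x5 a5 * T.x6 a6 b6 * T.x7 a7 * T.x8 a8 b8 := by
    intro a2 b2 a3 a4 b4 a5 a6 b6 a7 a8 b8
    show T.x1 0 * _ * _ * _ * _ * _ * _ * _ = _
    rw [x1_0, one_mul]
  rw [← key, ← key] at h
  have h1 := T.bij.1 h
  simp only [Cd.mk.injEq, true_and] at h1
  simpa only [map_mul] using h1

section

variable (hK : HypK σ m)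
include hK

theorem sig_inj_one {y : K} (h : σ y = 1) : y = 1 := by
  apply σ.injective
  rw [h, map_one]

theorem sig_ne {y : K} (h0 : y ≠ 0) (h1 : y ≠ 1) : σ y ≠ y := by
  intro h
  have h4 : σ (σ y) = y := by rw [h, h]
  rw [hK.sq] at h4
  have h5 : y * (y - 1) = 0 := by linear_combination h4
  rcases mul_eq_zero.1 h5 with h6 | h6
  · exact h0 h6
  · exact h1 (by linear_combination h6)

omit hK in
theorem kill {c a : K} (hc : c ≠ 1) (h : c * a = a) : a = 0 := by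
  have h1 : (c - 1) * a = 0 := by linear_combination h
  rcases mul_eq_zero.1 h1 with h2 | h2
  · exact absurd (by linear_combination h2) hc
  · exact h2

theorem sq_inj {y : K} (h : y * y = 1) : y = 1 := by
  have h5 : (y - 1) * (y - 1) = 0 := by linear_combination h + (1 - y) * hK.two
  have h6 := mul_self_eq_zero.1 h5
  linear_combination h6

/-- **`C_{QB}(t₂) = X₂`** -/
theorem fix2 {y : K} (h0 : y ≠ 0) (h1 : y ≠ 1) {d : MulAut U} (hd : T.IsTor d y⁻¹ y (RingEquiv.refl K)) {g : U}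
    (hg : g ∈ T.QB) (h : d g = g) : ∃ p u, g = T.x2 p u := by
  obtain ⟨a2, b2, a3, a4, b4, a5, a6, b6, a7, a8, b8, rfl⟩ := exists_B T hK.two hg
  obtain ⟨-, -, h3, h4, h4', h5, h6, h6', h7, h8, h8'⟩ := fix_el T hd h
  have hs : σ y ≠ 0 := by rwa [ne_eq, map_eq_zero]
  have hs1 : σ y ≠ 1 := fun e => h1 (sig_inj_one hK e)
  have hn : y * σ y ≠ 1 := fun e => h1 (ns_inj hK e)
  simp only [inv_mul_cancel₀ h0, map_one, one_mul, mul_one] at h3 h4 h4' h6 h6'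
  have e5 : y⁻¹ * σ y⁻¹ * y ^ 2 * σ y ^ 2 = y * σ y := by
    rw [map_inv₀]; field_simp
  have e7 : y⁻¹ * y ^ 2 * σ y = y * σ y := by field_simp
  have e6' : σ y * σ (σ y) ≠ 1 := by
    rw [← map_mul]
    exact fun e => hn (sig_inj_one hK e)
  rw [e5] at h5
  rw [e7] at h7
  rw [kill h1 h3, kill h1 h4, kill hn h4', kill hn h5, kill hs1 h6, kill e6' h6', kill hn h7, kill h1 h8, kill hn h8',
    x3_0, x4_0, x5_0, x6_0, x7_0, x8_0]
  exact ⟨a2, b2, by group⟩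

/-- **`C_{QB}(t₈) = X₈`** -/
theorem fix8 {y : K} (h0 : y ≠ 0) (h1 : y ≠ 1) {d : MulAut U} (hd : T.IsTor d y 1 (RingEquiv.refl K)) {g : U}
    (hg : g ∈ T.QB) (h : d g = g) : ∃ p u, g = T.x8 p u := by
  obtain ⟨a2, b2, a3, a4, b4, a5, a6, b6, a7, a8, b8, rfl⟩ := exists_B T hK.two hg
  obtain ⟨h2, h2', h3, h4, h4', h5, h6, h6', h7, -, -⟩ := fix_el T hd h
  have hs1 : σ y ≠ 1 := fun e => h1 (sig_inj_one hK e)
  have hn : y * σ y ≠ 1 := fun e => h1 (ns_inj hK e)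
  simp only [map_one, one_pow, mul_one] at h2 h2' h3 h4 h4' h5 h6 h6' h7
  have e4' : σ y * σ (σ y) ≠ 1 := by
    rw [← map_mul]
    exact fun e => hn (sig_inj_one hK e)
  rw [kill h1 h2, kill hn h2', kill hn h3, kill hs1 h4, kill e4' h4', kill hn h5, kill h1 h6, kill hn h6', kill h1 h7,
    x2_0, x3_0, x4_0, x5_0, x6_0, x7_0]
  exact ⟨a8, b8, by group⟩

/-- **`C_{QB}(t₄) = X₄`** -/
theorem fix4 {y : K} (h0 : y ≠ 0) (h1 : y ≠ 1) {d : MulAut U} (hd : T.IsTor d (y * σ y) (σ y)⁻¹ (RingEquiv.refl K))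
    {g : U} (hg : g ∈ T.QB) (h : d g = g) : ∃ p u, g = T.x4 p u := by
  obtain ⟨a2, b2, a3, a4, b4, a5, a6, b6, a7, a8, b8, rfl⟩ := exists_B T hK.two hg
  obtain ⟨h2, h2', h3, -, -, h5, h6, h6', h7, h8, h8'⟩ := fix_el T hd h
  have hs : σ y ≠ 0 := by rwa [ne_eq, map_eq_zero]
  have hs1 : σ y ≠ 1 := fun e => h1 (sig_inj_one hK e)
  have hn : y * σ y ≠ 1 := fun e => h1 (ns_inj hK e)
  have hi1 : y⁻¹ ≠ 1 := fun e => h1 (inv_eq_one.1 e)
  have e2 : y * σ y * (σ y)⁻¹ = y := by field_simp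
  rw [e2] at h2 h2' h3
  have e3 : y * σ y * (σ y)⁻¹ = y := e2
  rw [e3] at h3
  have e5 : y * σ y * σ (y * σ y) * (σ y)⁻¹ ^ 2 * σ (σ y)⁻¹ ^ 2 = y⁻¹ := by
    simp only [map_mul, map_inv₀, hK.sq]
    field_simp
  rw [e5] at h5
  have e6 : y * σ y * (σ y)⁻¹ * σ (σ y)⁻¹ = y⁻¹ := by
    simp only [map_inv₀, hK.sq]
    field_simp
  rw [e6] at h6 h6'
  have e6' : y⁻¹ * σ y⁻¹ ≠ 1 := by
    intro e
    exact hi1 (ns_inj hK e)
  have e7 : y * σ y * (σ y)⁻¹ ^ 2 * σ (σ y)⁻¹ = (y * σ y)⁻¹ := by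
    simp only [map_inv₀, hK.sq]
    field_simp
  rw [e7] at h7
  have e7' : (y * σ y)⁻¹ ≠ 1 := fun e => hn (inv_eq_one.1 e)
  have e8 : (σ y)⁻¹ ≠ 1 := fun e => hs1 (inv_eq_one.1 e)
  have e8' : (σ y)⁻¹ * σ (σ y)⁻¹ ≠ 1 := fun e => e8 (ns_inj hK e)
  rw [kill h1 h2, kill hn h2', kill h1 h3, kill hi1 h5, kill hi1 h6, kill e6' h6', kill e7' h7, kill e8 h8, kill e8' h8',
    x2_0, x3_0, x5_0, x6_0, x7_0, x8_0]
  exact ⟨a4, b4, by group⟩

/-- **`C_{QB}(t₆) = X₆`** -/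
theorem fix6 {y : K} (h0 : y ≠ 0) (h1 : y ≠ 1) {d : MulAut U} (hd : T.IsTor d (y * σ y)⁻¹ y (RingEquiv.refl K))
    {g : U} (hg : g ∈ T.QB) (h : d g = g) : ∃ p u, g = T.x6 p u := by
  obtain ⟨a2, b2, a3, a4, b4, a5, a6, b6, a7, a8, b8, rfl⟩ := exists_B T hK.two hg
  obtain ⟨h2, h2', h3, h4, h4', h5, -, -, h7, h8, h8'⟩ := fix_el T hd h
  have hs : σ y ≠ 0 := by rwa [ne_eq, map_eq_zero]
  have hs1 : σ y ≠ 1 := fun e => h1 (sig_inj_one hK e)
  have hn : y * σ y ≠ 1 := fun e => h1 (ns_inj hK e)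
  have hi1 : y⁻¹ ≠ 1 := fun e => h1 (inv_eq_one.1 e)
  have e2 : (y * σ y)⁻¹ * y = (σ y)⁻¹ := by field_simp
  rw [e2] at h2 h2' h3 h4 h4'
  have e3 : (σ y)⁻¹ * σ (σ y)⁻¹ * y = (y * σ y)⁻¹ := by
    simp only [map_inv₀, hK.sq]
    field_simp
  rw [e3] at h3
  have e4 : σ (σ y)⁻¹ * y = y⁻¹ := by
    simp only [map_inv₀, hK.sq]
    field_simp
  rw [e4] at h4 h4'
  have e5 : (y * σ y)⁻¹ * σ (y * σ y)⁻¹ * y ^ 2 * σ y ^ 2 = y⁻¹ := by
    simp only [map_mul, map_inv₀, hK.sq]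
    field_simp
  rw [e5] at h5
  have e7 : (y * σ y)⁻¹ * y ^ 2 * σ y = y := by field_simp
  rw [e7] at h7
  have k2 : (σ y)⁻¹ ≠ 1 := fun e => hs1 (inv_eq_one.1 e)
  have k2' : (σ y)⁻¹ * σ (σ y)⁻¹ ≠ 1 := fun e => k2 (ns_inj hK e)
  have k3 : (y * σ y)⁻¹ ≠ 1 := fun e => hn (inv_eq_one.1 e)
  have k4' : y⁻¹ * σ y⁻¹ ≠ 1 := fun e => hi1 (ns_inj hK e)
  rw [kill k2 h2, kill k2' h2', kill k3 h3, kill hi1 h4, kill k4' h4', kill hi1 h5, kill h1 h7, kill h1 h8, kill hn h8',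
    x2_0, x3_0, x4_0, x5_0, x7_0, x8_0]
  exact ⟨a6, b6, by group⟩

/-- rigidity on a root group of Suzuki type -/
theorem suz {Q : Type v} [Group Q] {x : K → K → Q} (hm : ∀ p u q v, x p u * x q v = x (p + q) (u + v + p * σ q))
    (hinj : ∀ p u q v, x p u = x q v → p = q ∧ u = v) (h3 : 3 ≤ Nat.card K) {ε : MulAut Q}
    (hX : ∀ p u, ∃ u', ε (x p u) = x p u') (hZ : ∀ u, ε (x 0 u) = x 0 u)
    (hT : ∀ y : K, y ≠ 0 → ∃ δ : MulAut Q, (∀ e, ε (δ e) = δ (ε e)) ∧ ∀ p u, δ (x p u) = x (y * p) (y * σ y * u)) :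
    ∀ p u, ε (x p u) = x p u := by
  classical
  choose B hB using fun p => hX p 0
  have hadd : ∀ p q, B (p + q) = B p + B q := by
    intro p q
    have h1 : x p 0 * x q 0 = x (p + q) 0 * x 0 (p * σ q) := by
      rw [hm, hm, map_zero, mul_zero]
      congr 1 <;> ring
    have h4 := congrArg ε h1
    rw [map_mul, map_mul, hB, hB, hB, hZ, hm, hm, map_zero, mul_zero] at h4
    have h5 := (hinj _ _ _ _ h4).2
    linear_combination -h5
  have hsc : ∀ y, y ≠ 0 → B y = y * σ y * B 1 := by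
    intro y hy
    obtain ⟨δ, hc, hδ⟩ := hT y hy
    have h1 := hc (x 1 0)
    rw [hδ, mul_one, mul_zero, hB, hB, hδ, mul_one] at h1
    exact (hinj _ _ _ _ h1).2
  have hB1 : B 1 = 0 := by
    obtain ⟨y, hy0, hy1⟩ : ∃ y : K, y ≠ 0 ∧ y ≠ 1 := by
      have := hK.fin
      have : Fintype K := Fintype.ofFinite K
      have h1 : ({0, 1} : Finset K).card < (Finset.univ : Finset K).card := by
        rw [Finset.card_univ, ← Nat.card_eq_fintype_card]
        exact lt_of_le_of_lt Finset.card_le_two (by omega)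
      obtain ⟨y, -, hy⟩ := Finset.exists_mem_notMem_of_card_lt_card h1
      simp only [Finset.mem_insert, Finset.mem_singleton, not_or] at hy
      exact ⟨y, hy.1, hy.2⟩
    have h4 : 1 + y ≠ 0 := by
      intro h5
      apply hy1
      linear_combination h5 - hK.two
    have h5 := hadd 1 y
    rw [hsc _ h4, hsc _ hy0, map_add, map_one] at h5
    have h6 : (σ y + y) * B 1 = 0 := by linear_combination h5
    rcases mul_eq_zero.1 h6 with h7 | h7
    · exfalso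
      apply sig_ne hK hy0 hy1
      linear_combination h7 - y * hK.two
    · exact h7
  have hB0 : ∀ p, B p = 0 := by
    intro p
    by_cases hp : p = 0
    · rw [hp]
      have h1 := hB 0
      rw [hZ] at h1
      exact (hinj _ _ _ _ h1).2.symm
    · rw [hsc p hp, hB1, mul_zero]
  intro p u
  have h1 : x p u = x p 0 * x 0 u := by
    rw [hm, map_zero, mul_zero]
    congr 1 <;> ring
  rw [h1, map_mul, hB, hB0, hZ]

end

section rigid

variable (hK : HypK σ m) (hG : StGrp.{u, v}) (h3 : 3 ≤ Nat.card K)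
include hK hG h3

theorem inj2 {p u q v : K} (h : T.x2 p u = T.x2 q v) : p = q ∧ u = v := by
  have h1 : T.el ⟨0, p, u, 0, 0, 0, 0, 0, 0, 0, 0, 0⟩ = T.el ⟨0, q, v, 0, 0, 0, 0, 0, 0, 0, 0, 0⟩ := by
    simp only [TF.el, x1_0, x3_0, x4_0, x5_0, x6_0, x7_0, x8_0, one_mul, mul_one]
    exact h
  have h4 := T.bij.1 h1
  simp only [Cd.mk.injEq, and_true, true_and] at h4
  exact h4

theorem inj4 {p u q v : K} (h : T.x4 p u = T.x4 q v) : p = q ∧ u = v := by
  have h1 : T.el ⟨0, 0, 0, 0, p, u, 0, 0, 0, 0, 0, 0⟩ = T.el ⟨0, 0, 0, 0, q, v, 0, 0, 0, 0, 0, 0⟩ := by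
    simp only [TF.el, x1_0, x2_0, x3_0, x5_0, x6_0, x7_0, x8_0, one_mul, mul_one]
    exact h
  have h4 := T.bij.1 h1
  simp only [Cd.mk.injEq, and_true, true_and] at h4
  exact h4

theorem inj6 {p u q v : K} (h : T.x6 p u = T.x6 q v) : p = q ∧ u = v := by
  have h1 : T.el ⟨0, 0, 0, 0, 0, 0, 0, p, u, 0, 0, 0⟩ = T.el ⟨0, 0, 0, 0, 0, 0, 0, q, v, 0, 0, 0⟩ := by
    simp only [TF.el, x1_0, x2_0, x3_0, x4_0, x5_0, x7_0, x8_0, one_mul, mul_one]
    exact h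
  have h4 := T.bij.1 h1
  simp only [Cd.mk.injEq, and_true, true_and] at h4
  exact h4

theorem inj8 {p u q v : K} (h : T.x8 p u = T.x8 q v) : p = q ∧ u = v := by
  have h1 : T.el ⟨0, 0, 0, 0, 0, 0, 0, 0, 0, 0, p, u⟩ = T.el ⟨0, 0, 0, 0, 0, 0, 0, 0, 0, 0, q, v⟩ := by
    simp only [TF.el, x1_0, x2_0, x3_0, x4_0, x5_0, x6_0, x7_0, one_mul, mul_one]
    exact h
  have h4 := T.bij.1 h1
  simp only [Cd.mk.injEq, true_and] at h4
  exact h4

/-- **rigidity**: an automorphism of `QB` which centralizes the torus and `V` is trivial -/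
theorem rigid {ε : MulAut T.QB} (hcom : ∀ δ ∈ TBar T hK hG, ∀ e, ε (δ e) = δ (ε e)) (hV : ∀ u, ε (vB T u) = vB T u) :
    ε = 1 := by
  classical
  have R := T.rel
  obtain ⟨y, hy0, hy1⟩ : ∃ y : K, y ≠ 0 ∧ y ≠ 1 := by
    have := hK.fin
    have : Fintype K := Fintype.ofFinite K
    have h1 : ({0, 1} : Finset K).card < (Finset.univ : Finset K).card := by
      rw [Finset.card_univ, ← Nat.card_eq_fintype_card]
      exact lt_of_le_of_lt Finset.card_le_two (by omega)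
    obtain ⟨y, -, hy⟩ := Finset.exists_mem_notMem_of_card_lt_card h1
    simp only [Finset.mem_insert, Finset.mem_singleton, not_or] at hy
    exact ⟨y, hy.1, hy.2⟩
  have hs : σ y ≠ 0 := by rwa [ne_eq, map_eq_zero]
  let X2 : K → K → T.QB := fun p u => ⟨T.x2 p u, x2_B p u⟩
  let X3 : K → T.QB := fun t => ⟨T.x3 t, x3_B t⟩
  let X4 : K → K → T.QB := fun p u => ⟨T.x4 p u, x4_B p u⟩
  let X5 : K → T.QB := fun t => ⟨T.x5 t, x5_B t⟩
  let X6 : K → K → T.QB := fun p u => ⟨T.x6 p u, x6_B p u⟩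
  let X7 : K → T.QB := fun t => ⟨T.x7 t, x7_B t⟩
  let X8 : K → K → T.QB := fun p u => ⟨T.x8 p u, x8_B p u⟩
  have z4 : ∀ u, ε (X4 0 u) = X4 0 u := by
    intro u
    have h1 := hV (u, 0)
    have h4 : vB T (u, 0) = X4 0 u := Subtype.ext (vv_left u)
    rwa [h4] at h1
  have z6 : ∀ u, ε (X6 0 u) = X6 0 u := by
    intro u
    have h1 := hV (0, u)
    have h4 : vB T (0, u) = X6 0 u := Subtype.ext (vv_right u)
    rwa [h4] at h1
  -- the root groups are invariant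
  have i2 : ∀ p u, ∃ p' u', ε (X2 p u) = X2 p' u' := by
    intro p u
    obtain ⟨d, δ, hd, hδ⟩ := exists_tor T hK hG (inv_ne_zero hy0) hy0
    have h4 : δ (X2 p u) = X2 p u := by
      apply Subtype.ext
      rw [hδ]
      show d (T.x2 p u) = T.x2 p u
      rw [hd.e2, inv_mul_cancel₀ hy0, map_one, one_mul, one_mul, one_mul]
      rfl
    have h5 := hcom δ ⟨d, _, _, hd, hδ⟩ (X2 p u)
    rw [h4] at h5
    obtain ⟨p', u', h6⟩ := fix2 T hK hy0 hy1 hd (ε (X2 p u)).2 (by rw [← hδ, ← h5])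
    exact ⟨p', u', Subtype.ext h6⟩
  have i8 : ∀ p u, ∃ p' u', ε (X8 p u) = X8 p' u' := by
    intro p u
    obtain ⟨d, δ, hd, hδ⟩ := exists_tor T hK hG hy0 one_ne_zero
    have h4 : δ (X8 p u) = X8 p u := by
      apply Subtype.ext
      rw [hδ]
      show d (T.x8 p u) = T.x8 p u
      rw [hd.e8, map_one, one_mul, one_mul, one_mul]
      rfl
    have h5 := hcom δ ⟨d, _, _, hd, hδ⟩ (X8 p u)
    rw [h4] at h5
    obtain ⟨p', u', h6⟩ := fix8 T hK hy0 hy1 hd (ε (X8 p u)).2 (by rw [← hδ, ← h5])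
    exact ⟨p', u', Subtype.ext h6⟩
  have i4 : ∀ p u, ∃ p' u', ε (X4 p u) = X4 p' u' := by
    intro p u
    obtain ⟨d, δ, hd, hδ⟩ := exists_tor T hK hG (mul_ne_zero hy0 hs) (inv_ne_zero hs)
    have h4 : δ (X4 p u) = X4 p u := by
      apply Subtype.ext
      rw [hδ]
      show d (T.x4 p u) = T.x4 p u
      have e4 : σ (y * σ y * (σ y)⁻¹) * (σ y)⁻¹ = 1 := by
        have : y * σ y * (σ y)⁻¹ = y := by field_simp
        rw [this, mul_inv_cancel₀ hs]
      rw [hd.e4, e4, map_one, one_mul, one_mul, one_mul]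
      rfl
    have h5 := hcom δ ⟨d, _, _, hd, hδ⟩ (X4 p u)
    rw [h4] at h5
    obtain ⟨p', u', h6⟩ := fix4 T hK hy0 hy1 hd (ε (X4 p u)).2 (by rw [← hδ, ← h5])
    exact ⟨p', u', Subtype.ext h6⟩
  have i6 : ∀ p u, ∃ p' u', ε (X6 p u) = X6 p' u' := by
    intro p u
    obtain ⟨d, δ, hd, hδ⟩ := exists_tor T hK hG (inv_ne_zero (mul_ne_zero hy0 hs)) hy0
    have h4 : δ (X6 p u) = X6 p u := by
      apply Subtype.ext
      rw [hδ]
      show d (T.x6 p u) = T.x6 p u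
      have e6 : (y * σ y)⁻¹ * y * σ y = 1 := by field_simp
      rw [hd.e6, e6, map_one, one_mul, one_mul, one_mul]
      rfl
    have h5 := hcom δ ⟨d, _, _, hd, hδ⟩ (X6 p u)
    rw [h4] at h5
    obtain ⟨p', u', h6⟩ := fix6 T hK hy0 hy1 hd (ε (X6 p u)).2 (by rw [← hδ, ← h5])
    exact ⟨p', u', Subtype.ext h6⟩
  have nseq : ∀ a p : K, a * σ a = p * σ p → a = p := by
    intro a p h
    by_cases hp : p = 0
    · rw [hp, zero_mul] at h
      rcases mul_eq_zero.1 h with h4 | h4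
      · rw [h4, hp]
      · rw [map_eq_zero] at h4
        rw [h4, hp]
    · have hsp : σ p ≠ 0 := by rwa [ne_eq, map_eq_zero]
      have h4 : a / p * σ (a / p) = 1 := by
        rw [map_div₀, div_mul_div_comm, h, div_self (mul_ne_zero hp hsp)]
      have h5 := ns_inj hK h4
      rwa [div_eq_one_iff_eq hp] at h5
  -- `X4`, `X6`
  have j4 : ∀ p u, ε (X4 p u) = X4 p u := by
    refine suz hK (x := X4) (fun p u q v => Subtype.ext (R.m4 p u q v))
      (fun p u q v h => inj4 T hK hG h3 (congrArg Subtype.val h)) h3 ?_ z4 ?_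
    · intro p u
      obtain ⟨a, b, hab⟩ := i4 p u
      have h1 : X4 p u * X4 p u = X4 0 (p * σ p) := by
        apply Subtype.ext
        show T.x4 p u * T.x4 p u = T.x4 0 (p * σ p)
        rw [R.m4]
        congr 1
        · linear_combination p * hK.two
        · linear_combination u * hK.two
      have h4 := congrArg ε h1
      rw [map_mul, hab, z4] at h4
      have h5 : X4 a b * X4 a b = X4 0 (a * σ a) := by
        apply Subtype.ext
        show T.x4 a b * T.x4 a b = T.x4 0 (a * σ a)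
        rw [R.m4]
        congr 1
        · linear_combination a * hK.two
        · linear_combination b * hK.two
      rw [h5] at h4
      have h6 := (inj4 T hK hG h3 (congrArg Subtype.val h4)).2
      rw [nseq a p h6] at hab
      exact ⟨b, hab⟩
    · intro z hz
      obtain ⟨d, δ, hd, hδ⟩ := exists_tor T hK hG (inv_ne_zero hz) hz
      refine ⟨δ, fun e => hcom δ ⟨d, _, _, hd, hδ⟩ e, fun p u => ?_⟩
      apply Subtype.ext
      rw [hδ]
      show d (T.x4 p u) = T.x4 (z * p) (z * σ z * u)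
      rw [hd.e4, inv_mul_cancel₀ hz, map_one, one_mul]
      rfl
  have j6 : ∀ p u, ε (X6 p u) = X6 p u := by
    refine suz hK (x := X6) (fun p u q v => Subtype.ext (R.m6 p u q v))
      (fun p u q v h => inj6 T hK hG h3 (congrArg Subtype.val h)) h3 ?_ z6 ?_
    · intro p u
      obtain ⟨a, b, hab⟩ := i6 p u
      have h1 : X6 p u * X6 p u = X6 0 (p * σ p) := by
        apply Subtype.ext
        show T.x6 p u * T.x6 p u = T.x6 0 (p * σ p)
        rw [R.m6]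
        congr 1
        · linear_combination p * hK.two
        · linear_combination u * hK.two
      have h4 := congrArg ε h1
      rw [map_mul, hab, z6] at h4
      have h5 : X6 a b * X6 a b = X6 0 (a * σ a) := by
        apply Subtype.ext
        show T.x6 a b * T.x6 a b = T.x6 0 (a * σ a)
        rw [R.m6]
        congr 1
        · linear_combination a * hK.two
        · linear_combination b * hK.two
      rw [h5] at h4
      have h6 := (inj6 T hK hG h3 (congrArg Subtype.val h4)).2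
      rw [nseq a p h6] at hab
      exact ⟨b, hab⟩
    · intro z hz
      obtain ⟨d, δ, hd, hδ⟩ := exists_tor T hK hG hz one_ne_zero
      refine ⟨δ, fun e => hcom δ ⟨d, _, _, hd, hδ⟩ e, fun p u => ?_⟩
      apply Subtype.ext
      rw [hδ]
      show d (T.x6 p u) = T.x6 (z * p) (z * σ z * u)
      rw [hd.e6, map_one, mul_one, mul_one]
      rfl
  -- `X5`
  have j5 : ∀ t, ε (X5 t) = X5 t := by
    intro t
    have h1 : X4 t 0 * X6 1 0 = X6 1 0 * X4 t 0 * X5 t := by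
      apply Subtype.ext
      show T.x4 t 0 * T.x6 1 0 = T.x6 1 0 * T.x4 t 0 * T.x5 t
      rw [R.r46, mul_one]
    have h4 := congrArg ε h1
    rw [map_mul, map_mul, map_mul, j4, j6, h1] at h4
    exact (mul_left_cancel h4).symm
  -- `X8`
  have k8 : ∀ p u, ∃ u', ε (X8 p u) = X8 p u' := by
    intro p u
    obtain ⟨a, b, hab⟩ := i8 p u
    have h1 : ∀ a b, X5 1 * X8 a b = X8 a b * X5 1 * X6 0 a := by
      intro a b
      apply Subtype.ext
      show T.x5 1 * T.x8 a b = T.x8 a b * T.x5 1 * T.x6 0 a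
      rw [R.r58, one_mul]
    have h4 := congrArg ε (h1 p u)
    rw [map_mul, map_mul, map_mul, j5, z6, hab, h1] at h4
    have h5 := congrArg Subtype.val (mul_left_cancel h4)
    have h6 := (inj6 T hK hG h3 h5).2
    rw [h6] at hab
    exact ⟨b, hab⟩
  have hsq : ∀ u : K, ∃ r : K, r * σ r = u := by
    have := hK.fin
    exact exists_sq hK.two hK.sq
  have j8 : ∀ p u, ε (X8 p u) = X8 p u := by
    refine suz hK (x := X8) (fun p u q v => Subtype.ext (R.m8 p u q v))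
      (fun p u q v h => inj8 T hK hG h3 (congrArg Subtype.val h)) h3 k8 ?_ ?_
    · intro u
      obtain ⟨r, rfl⟩ := hsq u
      have h1 : ∀ b, X8 r b * X8 r b = X8 0 (r * σ r) := by
        intro b
        apply Subtype.ext
        show T.x8 r b * T.x8 r b = T.x8 0 (r * σ r)
        rw [R.m8]
        congr 1
        · linear_combination r * hK.two
        · linear_combination b * hK.two
      obtain ⟨b, hb⟩ := k8 r 0
      rw [← h1 0, map_mul, hb, h1, h1]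
    · intro z hz
      obtain ⟨d, δ, hd, hδ⟩ := exists_tor T hK hG one_ne_zero hz
      refine ⟨δ, fun e => hcom δ ⟨d, _, _, hd, hδ⟩ e, fun p u => ?_⟩
      apply Subtype.ext
      rw [hδ]
      show d (T.x8 p u) = T.x8 (z * p) (z * σ z * u)
      rw [hd.e8]
      rfl
  -- `X2`
  have k2 : ∀ p u, ∃ u', ε (X2 p u) = X2 p u' := by
    intro p u
    obtain ⟨a, b, hab⟩ := i2 p u
    have h1 : ∀ a b, X2 a b * X5 1 = X5 1 * X2 a b * X4 0 a := by
      intro a b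
      apply Subtype.ext
      show T.x2 a b * T.x5 1 = T.x5 1 * T.x2 a b * T.x4 0 a
      rw [R.r25, mul_one]
    have h4 := congrArg ε (h1 p u)
    rw [map_mul, map_mul, map_mul, j5, z4, hab, h1] at h4
    have h5 := congrArg Subtype.val (mul_left_cancel h4)
    have h6 := (inj4 T hK hG h3 h5).2
    rw [h6] at hab
    exact ⟨b, hab⟩
  have j2 : ∀ p u, ε (X2 p u) = X2 p u := by
    refine suz hK (x := X2) (fun p u q v => Subtype.ext (R.m2 p u q v))
      (fun p u q v h => inj2 T hK hG h3 (congrArg Subtype.val h)) h3 k2 ?_ ?_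
    · intro u
      obtain ⟨r, rfl⟩ := hsq u
      have h1 : ∀ b, X2 r b * X2 r b = X2 0 (r * σ r) := by
        intro b
        apply Subtype.ext
        show T.x2 r b * T.x2 r b = T.x2 0 (r * σ r)
        rw [R.m2]
        congr 1
        · linear_combination r * hK.two
        · linear_combination b * hK.two
      obtain ⟨b, hb⟩ := k2 r 0
      rw [← h1 0, map_mul, hb, h1, h1]
    · intro z hz
      obtain ⟨d, δ, hd, hδ⟩ := exists_tor T hK hG hz one_ne_zero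
      refine ⟨δ, fun e => hcom δ ⟨d, _, _, hd, hδ⟩ e, fun p u => ?_⟩
      apply Subtype.ext
      rw [hδ]
      show d (T.x2 p u) = T.x2 (z * p) (z * σ z * u)
      rw [hd.e2, mul_one]
      rfl
  apply ext_B T hK.two
  · exact j2
  · intro t
    have h1 : X2 t 0 * X4 1 0 = X4 1 0 * X2 t 0 * X3 t := by
      apply Subtype.ext
      show T.x2 t 0 * T.x4 1 0 = T.x4 1 0 * T.x2 t 0 * T.x3 t
      rw [R.r24, mul_one]
    have h4 := congrArg ε h1
    rw [map_mul, map_mul, map_mul, j2, j4, h1] at h4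
    exact (mul_left_cancel h4).symm
  · exact j4
  · exact j5
  · exact j6
  · intro t
    have h1 : X6 t 0 * X8 1 0 = X8 1 0 * X6 t 0 * X7 t := by
      apply Subtype.ext
      show T.x6 t 0 * T.x8 1 0 = T.x8 1 0 * T.x6 t 0 * T.x7 t
      rw [R.r68, mul_one]
    have h4 := congrArg ε h1
    rw [map_mul, map_mul, map_mul, j6, j8, h1] at h4
    exact (mul_left_cancel h4).symm
  · exact j8

end rigid

end Cfsg.Agent.H7.TF

end

section

namespace Cfsg.Agent.H7.TF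

open Matrix Cfsg Cfsg.FusionSystem Cfsg.Agent.H756.PU Cfsg.Agent.H745.TF Cfsg.Agent.H7.PU.Core Cfsg.Agent.H7.PU.Shear
open Cfsg.Agent.H659.TF (x2_B x3_B x4_B x5_B x6_B x7_B x8_B exists_Pi Pi H3 exists_sq)
open Cfsg.Agent.H802 (exists_conjAut mem_autInducedBy_iff)
open Cfsg.Agent.Omega.BTwo (cj mem_cj)

universe u v

variable {K : Type u} [Field K] {σ : K →+* K} {m : ℕ} {U : Type v} [Group U] {T : TF σ U}

/-- the Weyl element of `K × K` -/
def sw (K : Type u) [Field K] : A2 K := mk {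
  toFun u := (u.2, u.1)
  invFun u := (u.2, u.1)
  left_inv _ := rfl
  right_inv _ := rfl
  map_add' _ _ := rfl }

theorem sw_apply (u : K × K) : sw K u = (u.2, u.1) := rfl

section

variable (hK : HypK σ m) (hG : StGrp.{u, v}) (hTI : StTIB.{u, v}) {Γ : Subgroup (MulAut T.QB)}
  {D : Subgroup (MulAut U)} (hp : T.Par T.QB Γ D)
include hK hG hTI hp

/-- `ψ` is linear -/
theorem linear (h8 : 5 ≤ Nat.card K) {ψ : K →+ K}
    (h1 : ∀ M : Matrix.SpecialLinearGroup (Fin 2) K, ∃ l ∈ LG (Γ.map (pi T hK.two)), ∀ u,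
      sh ψ (l u) = ml (M : Matrix (Fin 2) (Fin 2) K) (sh ψ u)) : ∃ k : K, ∀ u, ψ u = k * u := by
  have := hK.fin
  exact lin1 h8 ψ (fun t ht => (diag_step hK hG hTI hp h1 ht).2)

/-- the Weyl element lies in `Γ` -/
theorem weyl_mem (h8 : 5 ≤ Nat.card K) (hA : T.HasA D) (hB : T.HasB D)
    (h3 : ∀ M : Matrix.SpecialLinearGroup (Fin 2) K, ∃ l ∈ LG (Γ.map (pi T hK.two)), ∀ u,
      l u = ml (M : Matrix (Fin 2) (Fin 2) K) u) {w : MulAut T.QB} (hw : T.IsWb w) : w ∈ Γ := by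
  have hfin := finite_aut T hK hG
  have hH := hyp hK hG hTI hp
  -- an element of `Γ` which induces the swap
  obtain ⟨l, hl, hls⟩ := h3 ⟨!![0, 1; 1, 0], by
    rw [Matrix.det_fin_two_of]
    linear_combination (-1 : K) * hK.two⟩
  obtain ⟨γ, hγ, hγl⟩ := LG_le hH.le hl
  have hγs : pi T hK.two γ = sw K := by
    rw [hγl]
    apply ext'
    intro u
    rw [hls, sw_apply]
    apply Prod.ext
    · show 0 * u.1 + 1 * u.2 = u.2
      ring
    · show 1 * u.1 + 0 * u.2 = u.1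
      ring
  have hws : pi T hK.two w = sw K := ext' fun u => by rw [pi_wb T hK.two hw, sw_apply]
  -- the torus
  have hTΓ : TBar T hK hG ≤ Γ := by
    rintro δ ⟨d, f, g, hd, hdδ⟩
    exact hp.D_res d (tor_mem_D T hK hG hA hB hd) δ hdδ
  set N : Subgroup (MulAut T.QB) := Γ ⊓ (pi T hK.two).ker with hN
  set B : Subgroup (MulAut T.QB) := Γ ⊓ ((TBar T hK hG).map (pi T hK.two)).comap (pi T hK.two) with hBdef
  have hNmem : ∀ x, x ∈ N ↔ x ∈ Γ ∧ pi T hK.two x = 1 := fun x => Iff.rfl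
  have hBmem : ∀ x, x ∈ B ↔ x ∈ Γ ∧ ∃ t ∈ TBar T hK hG, pi T hK.two t = pi T hK.two x := fun x => Iff.rfl
  have hNB : N ≤ B := by
    intro x hx
    rw [hNmem] at hx
    rw [hBmem]
    exact ⟨hx.1, 1, one_mem _, by rw [hx.2, map_one]⟩
  have hTB : TBar T hK hG ≤ B := fun x hx => (hBmem x).2 ⟨hTΓ hx, x, hx, rfl⟩
  have hrel : N.relIndex B = Nat.card (TBar T hK hG) := by
    let f : B →* A2 K := (pi T hK.two).comp B.subtype
    have hk : f.ker = N.subgroupOf B := by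
      ext x
      rw [MonoidHom.mem_ker, Subgroup.mem_subgroupOf, hNmem]
      exact ⟨fun h => ⟨((hBmem _).1 x.2).1, h⟩, fun h => h.2⟩
    have hr : f.range = (TBar T hK hG).map (pi T hK.two) := by
      ext x
      constructor
      · rintro ⟨b, rfl⟩
        exact ((hBmem _).1 b.2).2
      · rintro ⟨t, ht, rfl⟩
        exact ⟨⟨t, hTB ht⟩, rfl⟩
    show (N.subgroupOf B).index = _
    rw [← hk, Subgroup.index_ker, hr]
    refine Nat.card_congr (Equiv.ofBijective (fun t : TBar T hK hG =>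
      (⟨pi T hK.two t, t, t.2, rfl⟩ : (TBar T hK hG).map (pi T hK.two))) ⟨?_, ?_⟩).symm
    · intro a b hab
      exact Subtype.ext (tbar_eq T hK hG a.2 b.2 (congrArg Subtype.val hab))
    · rintro ⟨_, t, ht, rfl⟩
      exact ⟨⟨t, ht⟩, rfl⟩
  have hNT : Cfsg.Agent.Omega.Hex.NT N B := by
    refine ⟨hNB, ?_, ?_, ?_⟩
    · intro b hb
      rw [Subgroup.mem_normalizer_iff]
      have hbΓ : b ∈ Γ := ((hBmem _).1 hb).1
      intro x
      rw [hNmem, hNmem]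
      constructor
      · rintro ⟨h4, h5⟩
        exact ⟨mul_mem (mul_mem hbΓ h4) (inv_mem hbΓ), by rw [map_mul, map_mul, h5, mul_one, map_inv, mul_inv_cancel]⟩
      · rintro ⟨h4, h5⟩
        have e : x = b⁻¹ * (b * x * b⁻¹) * b := by group
        refine ⟨?_, ?_⟩
        · rw [e]
          exact mul_mem (mul_mem (inv_mem hbΓ) h4) hbΓ
        · rw [e, map_mul, map_mul, h5, mul_one, map_inv, inv_mul_cancel]
    · rintro ⟨x, hx⟩
      obtain ⟨k, hk⟩ := pow_aut T hK hG (ker_le hK hG hTI hp ((hNmem x).1 hx).1 ((hNmem x).1 hx).2)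
      exact ⟨k, Subtype.ext hk⟩
    · rw [hrel]
      exact odd_TBar T hK hG
  have hc1 : Cfsg.Agent.Omega.Hex.Cpl N B (TBar T hK hG) := ⟨hTB, hrel.symm⟩
  have hc2 : Cfsg.Agent.Omega.Hex.Cpl N B (cj γ (TBar T hK hG)) := by
    refine ⟨?_, ?_⟩
    · intro x hx
      rw [mem_cj] at hx
      have e : x = γ * (γ⁻¹ * x * γ) * γ⁻¹ := by group
      rw [hBmem]
      refine ⟨?_, w * (γ⁻¹ * x * γ) * w⁻¹, wb_conj T hK hG hw hx, ?_⟩
      · rw [e]
        exact mul_mem (mul_mem hγ (hTΓ hx)) (inv_mem hγ)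
      · conv_rhs => rw [e]
        simp only [map_mul, map_inv, hws, hγs]
    · rw [hrel]
      exact Nat.card_congr ((TBar T hK hG).equivMapOfInjective _ (MulAut.conj γ).injective).toEquiv.symm
  obtain ⟨b, hb, hbc⟩ := hNT.conj hc2 hc1
  -- the element normalizing the torus
  obtain ⟨w', hw'⟩ : ∃ w', w' = b * γ := ⟨_, rfl⟩
  have hw'Γ : w' ∈ Γ := by rw [hw']; exact mul_mem ((hNmem b).1 hb).1 hγ
  have hw's : pi T hK.two w' = sw K := by rw [hw', map_mul, ((hNmem b).1 hb).2, one_mul, hγs]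
  have hnorm : ∀ δ ∈ TBar T hK hG, w' * δ * w'⁻¹ ∈ TBar T hK hG := by
    intro δ hδ
    rw [← hbc, mem_cj, mem_cj, hw']
    have e : γ⁻¹ * (b⁻¹ * (b * γ * δ * (b * γ)⁻¹) * b) * γ = δ := by group
    rw [e]
    exact hδ
  have heq : ∀ δ ∈ TBar T hK hG, w' * δ * w'⁻¹ = w * δ * w⁻¹ := by
    intro δ hδ
    apply tbar_eq T hK hG (hnorm δ hδ) (wb_conj T hK hG hw hδ)
    simp only [map_mul, map_inv, hws, hw's]
  have hone : w⁻¹ * w' = 1 := by
    apply rigid T hK hG (by omega)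
    · intro δ hδ e
      have h4 := heq δ hδ
      have h5 : w⁻¹ * w' * δ = δ * (w⁻¹ * w') := by
        calc w⁻¹ * w' * δ = w⁻¹ * (w' * δ * w'⁻¹) * w' := by group
          _ = w⁻¹ * (w * δ * w⁻¹) * w' := by rw [h4]
          _ = _ := by group
      exact DFunLike.congr_fun h5 e
    · intro u
      rw [pi_spec T hK.two, map_mul, map_inv, hws, hw's, inv_mul_cancel]
      rfl
  have : w' = w := by
    rw [inv_mul_eq_one] at hone
    exact hone.symm
  rw [← this]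
  exact hw'Γ

omit hTI hp in
/-- `SL₂(K)` is generated by the root group and the Weyl element -/
theorem gen (T : TF σ U) (M : Matrix.SpecialLinearGroup (Fin 2) K) :
    ∃ l ∈ T.LamB, ∀ u, pi T hK.two l u = ml (M : Matrix (Fin 2) (Fin 2) K) u := by
  obtain ⟨w, hw⟩ := (hG hK T).2.2.2.2.2
  have h2 := hK.two
  have hwL : w ∈ T.LamB := (le_sup_right : _ ≤ T.LamB) (Subgroup.subset_closure hw)
  have htau : ∀ r : K, ∃ l ∈ T.LamB, pi T hK.two l = tau r := by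
    intro r
    obtain ⟨γ, hγ, hr⟩ := exists_of_mem_TG T hK.two (tau_mem r)
    exact ⟨γ, (le_sup_left : _ ≤ T.LamB) hγ, hr⟩
  have hwi : ∀ u : K × K, (pi T hK.two w)⁻¹ u = (u.2, u.1) := by
    intro u
    apply (pi T hK.two w).injective
    rw [ai, pi_wb T hK.two hw]
  have hc : ∀ M : Matrix (Fin 2) (Fin 2) K, M.det = 1 → M 1 0 ≠ 0 → ∃ l ∈ T.LamB, ∀ u, pi T hK.two l u = ml M u := by
    intro M hdet h0
    rw [Matrix.det_fin_two] at hdet
    obtain ⟨l1, hl1, e1⟩ := htau ((M 0 0 - 1) / M 1 0)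
    obtain ⟨l2, hl2, e2⟩ := htau (M 1 0)
    obtain ⟨l3, hl3, e3⟩ := htau ((M 1 1 - 1) / M 1 0)
    refine ⟨l1 * (w * l2 * w⁻¹) * l3, mul_mem (mul_mem hl1 (mul_mem (mul_mem hwL hl2) (inv_mem hwL))) hl3, fun u => ?_⟩
    rw [map_mul, map_mul, map_mul, map_mul, map_inv, e1, e2, e3, LinearEquiv.mul_apply, LinearEquiv.mul_apply,
      LinearEquiv.mul_apply, LinearEquiv.mul_apply, hwi, pi_wb T hK.two hw]
    apply Prod.ext
    · simp only [tau_apply, ml]
      field_simp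
      linear_combination u.2 * hdet
    · simp only [tau_apply, ml]
      field_simp
      ring
  by_cases h0 : (M : Matrix (Fin 2) (Fin 2) K) 1 0 = 0
  · have hdet := M.det_coe
    rw [Matrix.det_fin_two, h0, mul_zero, sub_zero] at hdet
    obtain ⟨l, hl, hlu⟩ := hc !![0, (M : Matrix (Fin 2) (Fin 2) K) 1 1; (M : Matrix (Fin 2) (Fin 2) K) 0 0,
      (M : Matrix (Fin 2) (Fin 2) K) 0 1] (by
        rw [Matrix.det_fin_two_of]
        linear_combination hdet - (M : Matrix (Fin 2) (Fin 2) K) 0 0 * (M : Matrix (Fin 2) (Fin 2) K) 1 1 * h2) (by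
        show (M : Matrix (Fin 2) (Fin 2) K) 0 0 ≠ 0
        intro h1
        rw [h1, zero_mul] at hdet
        exact zero_ne_one hdet)
    refine ⟨w⁻¹ * l, mul_mem (inv_mem hwL) hl, fun u => ?_⟩
    rw [map_mul, map_inv, LinearEquiv.mul_apply, hwi, hlu]
    apply Prod.ext
    · rfl
    · show 0 * u.1 + (M : Matrix (Fin 2) (Fin 2) K) 1 1 * u.2 =
        (M : Matrix (Fin 2) (Fin 2) K) 1 0 * u.1 + (M : Matrix (Fin 2) (Fin 2) K) 1 1 * u.2
      rw [h0]
  · exact hc _ M.det_coe h0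

/-- `Γ ⊆ Λ D` -/
theorem decomp (h3 : ∀ M : Matrix.SpecialLinearGroup (Fin 2) K, ∃ l ∈ LG (Γ.map (pi T hK.two)), ∀ u,
      l u = ml (M : Matrix (Fin 2) (Fin 2) K) u)
    (h4 : ∀ l ∈ LG (Γ.map (pi T hK.two)), ∃ M : Matrix.SpecialLinearGroup (Fin 2) K, ∀ u,
      l u = ml (M : Matrix (Fin 2) (Fin 2) K) u) (hLam : T.LamB ≤ Γ) {γ : MulAut T.QB} (hγ : γ ∈ Γ) :
    ∃ l ∈ T.LamB, ∃ d ∈ D, ∃ δ : MulAut T.QB, TF.IsR d δ ∧ γ = l * δ := by
  obtain ⟨g, hg⟩ : ∃ g, g = pi T hK.two γ := ⟨_, rfl⟩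
  have hgG : g ∈ Γ.map (pi T hK.two) := ⟨γ, hγ, hg.symm⟩
  -- move the fixed vector
  have hv0 : g (1, 0) ≠ 0 := by
    intro h5
    have h6 : g (1, 0) = g 0 := by rw [h5, map_zero]
    have h7 := congrArg Prod.fst (g.injective h6)
    exact one_ne_zero h7
  obtain ⟨N, hN⟩ := Hyp.exists_to_one (F := K) (w := ![(g (1, 0)).1, (g (1, 0)).2]) (by
    intro h5
    apply hv0
    exact Prod.ext (congrFun h5 0) (congrFun h5 1))
  obtain ⟨lam, hlam, hlamN⟩ := gen hK hG T N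
  obtain ⟨l, hl, hlN⟩ := h3 N
  have hlaml : pi T hK.two lam = l := ext' fun u => by rw [hlamN, hlN]
  have hlv : l (g (1, 0)) = (1, 0) := by
    rw [hlN]
    have e0 := congrFun hN 0
    have e1 := congrFun hN 1
    simp only [Matrix.mulVec, dotProduct, Fin.sum_univ_two, Matrix.cons_val_zero, Matrix.cons_val_one,
      Matrix.cons_val_fin_one] at e0 e1
    exact Prod.ext e0 e1
  have hn : ∀ t ∈ TG K, (l * g) * t * (l * g)⁻¹ ∈ TG K := by
    rintro _ ⟨r, rfl⟩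
    have h5 : l * g * tau r * (l * g)⁻¹ ∈ LG (Γ.map (pi T hK.two)) := by
      have h6 : l * g * tau r * (l * g)⁻¹ = l * (g * tau r * g⁻¹) * l⁻¹ := by group
      rw [h6]
      exact mul_mem (mul_mem hl (conj_mem_LG hgG (tau_mem r))) (inv_mem hl)
    obtain ⟨M, hM⟩ := h4 _ h5
    have h6 : (l * g)⁻¹ (1, 0) = (1, 0) := by
      apply (l * g).injective
      rw [ai, LinearEquiv.mul_apply, hlv]
    have h7 := hM (1, 0)
    rw [LinearEquiv.mul_apply, LinearEquiv.mul_apply, h6, tau_apply, mul_zero, add_zero, LinearEquiv.mul_apply,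
      hlv] at h7
    have e0 : (M : Matrix (Fin 2) (Fin 2) K) 0 0 = 1 := by
      have := congrArg Prod.fst h7
      simp only [ml] at this
      simpa using this.symm
    have e1 : (M : Matrix (Fin 2) (Fin 2) K) 1 0 = 0 := by
      have := congrArg Prod.snd h7
      simp only [ml] at this
      simpa using this.symm
    have hdet := M.det_coe
    rw [Matrix.det_fin_two, e0, e1, one_mul, mul_zero, sub_zero] at hdet
    refine ⟨(M : Matrix (Fin 2) (Fin 2) K) 0 1, ?_⟩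
    apply ext'
    intro u
    rw [hM, tau_apply, ml, e0, e1, hdet, one_mul, zero_mul, zero_add, one_mul]
  have hlg : pi T hK.two (lam * γ) = l * g := by rw [map_mul, hlaml, hg]
  rw [← hlg] at hn
  obtain ⟨c, r, d, f, g', τ, δ, hcA, hcr, hd, hdt, hδ, hγc⟩ :=
    norm_form hK hG hTI hp (mul_mem (hLam hlam) hγ) hn
  refine ⟨lam⁻¹ * c, mul_mem (inv_mem hlam) ((le_sup_left : _ ≤ T.LamB) hcA), d, hd, δ, hδ, ?_⟩
  rw [mul_assoc, ← hγc, inv_mul_cancel_left]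

end

/-- **(LB2)** -/
theorem stLB2 (hG : StGrp.{u, v}) (hTI : StTIB.{u, v}) : StLB2.{u, v} := by
  intro K _ σ m hK hm U _ T Γ D hp hA hB
  have hfin := hK.fin
  have hH := hyp hK hG hTI hp
  have h8 : 5 ≤ Nat.card K := by
    rw [hK.card]
    calc 5 ≤ 2 ^ 3 := by norm_num
      _ ≤ 2 ^ (2 * m + 1) := Nat.pow_le_pow_right (by norm_num) (by omega)
  obtain ⟨ψ, h1, h2⟩ := hH.exists_shear
  obtain ⟨k, hk⟩ := linear hK hG hTI hp h8 h1
  obtain ⟨h3, h4⟩ := exact hk h1 h2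
  have hLam : T.LamB ≤ Γ := by
    refine sup_le hp.indu ((Subgroup.closure_le _).2 ?_)
    intro w hw
    exact weyl_mem hK hG hTI hp h8 hA hB h3 hw
  intro γ
  constructor
  · intro hγ
    exact decomp hK hG hTI hp h3 h4 hLam hγ
  · rintro ⟨l, hl, d, hd, δ, hδ, rfl⟩
    exact mul_mem (hLam hl) (hp.D_res d hd δ hδ)

end Cfsg.Agent.H7.TF

end

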